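import Cfsg.Agent.Lib.UFourType.ThreeLocal.Setup

/-!
The centraliser of the element of order three cannot have a Sylow 3-subgroup of order nine.
-/

set_option autoImplicit false
set_option maxRecDepth 20000

namespace CfsgLib.UFourType

open Subgroup

/-- The codes of the elementary group of order nine commute and are products of the two generators. -/
theorem aa_facts :
    (∀ c ∈ aaCodes, ∀ d ∈ aaCodes, uMul c d = uMul d c) ∧
    (∀ c ∈ aaCodes, c ∈ ([0, 1132, 712].flatMap fun i => [0, 1054, 827].map fun j => uMul i j)) ∧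
    uMul 1132 1132 = 712 ∧ uMul 1054 1054 = 827 ∧ uMul 712 1132 = 0 ∧ uMul 1132 712 = 0 ∧ uMul 827 1054 = 0 ∧
    (∀ c ∈ aaCodes, ∃ d ∈ aaCodes, uMul c d = 0) ∧ (∀ c ∈ aaCodes, uMul (uMul c c) c = 0) := by
  decide +kernel

/-- A 3-element sends no element of order three to its inverse. -/
theorem commute_of_three {G : Type*} [Group G] {t a : G} {k : ℕ} (ht : t ^ 3 ^ k = 1)
    (h : t * a * t⁻¹ = a⁻¹) (ha : a ^ 3 = 1) : a = 1 := by
  have h2 : ∀ n, t ^ (2 * n + 1) * a * (t ^ (2 * n + 1))⁻¹ = a⁻¹ := by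
    intro n
    induction n with
    | zero => simpa using h
    | succ n ih =>
      rw [show 2 * (n + 1) + 1 = 2 + (2 * n + 1) by ring, pow_add]
      calc t ^ 2 * t ^ (2 * n + 1) * a * (t ^ 2 * t ^ (2 * n + 1))⁻¹
          = t ^ 2 * (t ^ (2 * n + 1) * a * (t ^ (2 * n + 1))⁻¹) * (t ^ 2)⁻¹ := by group
        _ = t ^ 2 * a⁻¹ * (t ^ 2)⁻¹ := by rw [ih]
        _ = (t * (t * a * t⁻¹) * t⁻¹)⁻¹ := by group
        _ = (t * a⁻¹ * t⁻¹)⁻¹ := by rw [h]
        _ = t * a * t⁻¹ := by group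
        _ = a⁻¹ := h
  obtain ⟨n, hn⟩ : Odd (3 ^ k) := (by decide : Odd 3).pow
  have := h2 n
  rw [← hn, ht, one_mul, inv_one, mul_one] at this
  rw [pow_succ, pow_two] at ha
  nth_rewrite 1 [this] at ha
  simpa using ha

variable {G : Type*} [Group G] [Finite G] {z : G} {el : ℕ → G} (C : Code z el)

include C

/-- The elementary group of order nine. -/
theorem exists_nine : ∃ A : Subgroup G, Nat.card ↥A = 9 ∧ (∀ g, g ∈ A ↔ ∃ c ∈ aaCodes, el c = g) := by
  classical
  obtain ⟨-, -, -, -, -, hinv, -⟩ := aa_facts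
  have hm := small_facts.2.2.2.2.2
  let A : Subgroup G :=
    { carrier := {g | ∃ c ∈ aaCodes, el c = g}
      one_mem' := ⟨0, by simp [aaCodes], C.one⟩
      mul_mem' := by
        rintro _ _ ⟨c, hc, rfl⟩ ⟨d, hd, rfl⟩
        exact ⟨_, (hm c hc).2 d hd, (C.el_mul (hm c hc).1 (hm d hd).1).symm⟩
      inv_mem' := by
        rintro _ ⟨c, hc, rfl⟩
        obtain ⟨d, hd, h⟩ := aa_facts.2.2.2.2.2.2.2.1 c hc
        exact ⟨d, hd, (C.el_inv (hm c hc).1 (hm d hd).1 h).symm⟩ }
  refine ⟨A, ?_, fun g => Iff.rfl⟩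
  have hset : (A : Set G) = el '' ↑aaCodes.toFinset := by
    ext g
    simp only [A, Subgroup.coe_set_mk, Set.mem_setOf_eq, Set.mem_image, List.coe_toFinset]
    rfl
  rw [← SetLike.coe_sort_coe, Nat.card_coe_set_eq, hset, Set.InjOn.ncard_image, Set.ncard_coe_finset,
    List.toFinset_card_of_nodup aa_nodup]
  · rfl
  · intro c hc d hd h
    simp only [List.coe_toFinset, Set.mem_setOf_eq] at hc hd
    exact C.inj c d (hm c hc).1 (hm d hd).1 h

/-- An element normalising the group of order nine fixes the line of `el aC`. -/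
theorem normalizing_fixes {A : Subgroup G} (hA : ∀ g, g ∈ A ↔ ∃ c ∈ aaCodes, el c = g) (hz : orderOf z = 2) {n : G}
    (hn : ∀ v ∈ A, n * v * n⁻¹ ∈ A) : n * el aC * n⁻¹ = el aC ∨ n * el aC * n⁻¹ = el 712 := by
  have hm := small_facts.2.2.2.2.2
  have haA : el aC ∈ A := (hA _).2 ⟨aC, by simp [aaCodes, aC], rfl⟩
  have hxA : el xC ∈ A := (hA _).2 ⟨xC, by simp [aaCodes, xC], rfl⟩
  have hzc : ∀ v ∈ A, Commute v z := fun v hv => by
    obtain ⟨c, hc, rfl⟩ := (hA v).1 hv
    exact C.el_commute_z (hm c hc).1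
  have hback : ∀ v ∈ A, ∃ w ∈ A, n * w * n⁻¹ = v := fun v hv => by
    have e : A.map (MulAut.conj n).toMonoidHom = A := eq_of_le_of_card_ge
      (by rintro _ ⟨w, hw, rfl⟩; exact hn w hw) (le_of_eq (card_map_of_injective (MulAut.conj n).injective).symm)
    rw [← e] at hv
    exact hv
  set CA := centralizer (A : Set G) with hCA
  have hzCA : z ∈ CA := mem_centralizer_iff.2 fun v hv => (hzc v hv).eq
  have huniq : ∀ t ∈ CA, orderOf t = 2 → Commute t z → t = z := fun t ht ht2 htz => by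
    obtain ⟨c, hc, rfl⟩ := C.exists_code htz
    have h1 : uMul c aC = uMul aC c := (C.el_comm_iff hc (by decide)).1 (mem_centralizer_iff.1 ht _ haA).symm
    have h2 : uMul c xC = uMul xC c := (C.el_comm_iff hc (by decide)).1 (mem_centralizer_iff.1 ht _ hxA).symm
    have h3 : uMul c c = 0 := by
      have := pow_orderOf_eq_one (el c)
      rw [ht2, pow_two, C.el_mul hc hc, ← C.one] at this
      exact C.inj _ 0 (C.mul c c hc hc).1 (by norm_num) this
    rcases List.mem_cons.1 (small_facts.2.2.2.1 c ((scan_at hc).1 h1) h2 h3) with rfl | h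
    · rw [C.one, orderOf_one] at ht2; omega
    · rw [List.mem_singleton.1 h]; exact C.z_eq
  have hgz : n * z * n⁻¹ ∈ CA := mem_centralizer_iff.2 fun v hv => by
    obtain ⟨w, hw, rfl⟩ := hback v hv
    calc n * w * n⁻¹ * (n * z * n⁻¹) = n * (w * z) * n⁻¹ := by group
      _ = n * (z * w) * n⁻¹ := by rw [(hzc w hw).eq]
      _ = _ := by group
  obtain ⟨⟨c, hcA, hc⟩, -⟩ := involutions_conj hzCA hz huniq hgz (by rw [orderOf_conjugate]; exact hz)
  have hhz : Commute (c⁻¹ * n) z := by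
    have h1 : n * z = c * z * c⁻¹ * n := by rw [hc]; group
    show c⁻¹ * n * z = z * (c⁻¹ * n)
    rw [mul_assoc c⁻¹, h1]; group
  have hfix : ∀ v ∈ A, c * v * c⁻¹ = v := fun v hv =>
    mul_inv_eq_iff_eq_mul.2 (mem_centralizer_iff.1 hcA v hv).symm
  have hh : ∀ v ∈ A, c⁻¹ * n * v * (c⁻¹ * n)⁻¹ = n * v * n⁻¹ := fun v hv => by
    rw [show c⁻¹ * n * v * (c⁻¹ * n)⁻¹ = c⁻¹ * (n * v * n⁻¹) * c by group, mul_assoc,
      mem_centralizer_iff.1 hcA _ (hn v hv), inv_mul_cancel_left]
  obtain ⟨g, hg, hgeq⟩ := C.exists_code hhz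
  have hmem : ∀ e, e ∈ aaCodes → el e ∈ A → uMul g e ∈ aaCodes.map (fun v => uMul v g) := fun e he heA => by
    obtain ⟨v, hv, hveq⟩ := (hA _).1 (hn _ heA)
    refine List.mem_map.2 ⟨v, hv, C.inj _ _ (C.mul v g (hm v hv).1 hg).1 (C.mul g e hg (hm e he).1).1 ?_⟩
    rw [← C.el_mul (hm v hv).1 hg, ← C.el_mul hg (hm e he).1, hveq, ← hh _ heA, hgeq]
    group
  have h := (scan_at hg).2.2 (hmem aC (by simp [aaCodes, aC]) haA) (hmem xC (by simp [aaCodes, xC]) hxA)
  rw [← hh _ haA, ← hgeq, mul_inv_eq_iff_eq_mul, mul_inv_eq_iff_eq_mul, C.el_mul hg (by decide),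
    C.el_mul (by decide) hg, C.el_mul (by decide) hg]
  rcases List.mem_cons.1 h with h | h
  · exact Or.inl (by rw [h])
  · exact Or.inr (by rw [List.mem_singleton.1 h])

/-- The group of order nine is a Sylow 3-subgroup of the whole group if it is one of the centraliser. -/
theorem nine_maximal {A : Subgroup G} (hA : ∀ g, g ∈ A ↔ ∃ c ∈ aaCodes, el c = g) (hA9 : Nat.card ↥A = 9)
    (hz : orderOf z = 2) (hD : ¬ 27 ∣ Nat.card ↥(centralizer ({el aC} : Set G))) {Q : Subgroup G} (hQ : IsPGroup 3 ↥Q)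
    (hle : A ≤ Q) : Q = A := by
  haveI : Fact (Nat.Prime 3) := ⟨Nat.prime_three⟩
  by_contra hne
  haveI : Group.IsNilpotent ↥Q := hQ.isNilpotent
  have hlt : A.subgroupOf Q < normalizer ((A.subgroupOf Q : Subgroup ↥Q) : Set ↥Q) :=
    normalizerCondition_of_isNilpotent _
      (lt_top_iff_ne_top.2 fun h => hne (le_antisymm (subgroupOf_eq_top.1 h) hle))
  obtain ⟨t, htN, htA⟩ := SetLike.exists_of_lt hlt
  have htn : ∀ v ∈ A, (t : G) * v * (t : G)⁻¹ ∈ A := fun v hv =>
    (mem_normalizer_iff.1 htN ⟨v, hle hv⟩).1 (show v ∈ A from hv)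
  obtain ⟨k, hk⟩ := hQ t
  have htk : (t : G) ^ 3 ^ k = 1 := congrArg Subtype.val hk
  have haA : el aC ∈ A := (hA _).2 ⟨aC, by simp [aaCodes, aC], rfl⟩
  have hfix : (t : G) * el aC * (t : G)⁻¹ = el aC := by
    rcases normalizing_fixes C hA hz htn with h | h
    · exact h
    · obtain ⟨-, -, h1, -, h2, h3, -⟩ := aa_facts
      have hinv : (el aC)⁻¹ = el 712 := C.el_inv (by decide) (by decide) h3
      rw [← hinv] at h
      have h9 := commute_of_three htk h (by
        rw [pow_succ, pow_two, show el aC = el 1132 from rfl, C.el_mul (by decide) (by decide), h1,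
          C.el_mul (by decide) (by decide), h2, C.one])
      exact absurd h9 (C.el_ne_one (by decide) (by decide))
  set T := A ⊔ zpowers (t : G) with hT
  have hTQ : T ≤ Q := sup_le hle (zpowers_le.2 t.2)
  have hTD : T ≤ centralizer ({el aC} : Set G) := by
    refine sup_le (fun v hv => ?_) (zpowers_le.2 (mem_centralizer_singleton_iff.2 (mul_inv_eq_iff_eq_mul.1 hfix)))
    obtain ⟨c, hc, rfl⟩ := (hA v).1 hv
    exact mem_centralizer_singleton_iff.2
      ((C.el_comm_iff (small_facts.2.2.2.2.2 c hc).1 (by decide)).2 (aa_facts.1 c hc aC (by simp [aaCodes, aC])))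
  obtain ⟨e, he⟩ := IsPGroup.iff_card.1 (hQ.to_le hTQ)
  have h9 : 9 < 3 ^ e := by
    rw [← he, ← hA9]
    refine lt_of_le_of_ne (Nat.le_of_dvd Nat.card_pos (Subgroup.card_dvd_of_le le_sup_left)) fun h => ?_
    have := eq_of_le_of_card_ge (show A ≤ T from le_sup_left) h.ge
    exact htA (this.ge (mem_sup_right (mem_zpowers _)))
  have : 3 ≤ e := by
    by_contra hcon
    interval_cases e <;> omega
  exact hD ((Nat.pow_dvd_pow 3 this).trans (he ▸ Subgroup.card_dvd_of_le hTD))

/-- The centralisers of the four other elements of order three contain no four-group. -/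
theorem no_four_other (hz : orderOf z = 2) {e : ℕ} (he : e ∈ [123, 300, 370, 480]) {t u : G} (ht : orderOf t = 2)
    (hu : orderOf u = 2) (hte : Commute t (el e)) (hue : Commute u (el e)) (htu : Commute u t) : u = t := by
  have he' : e < 1152 := by simp only [List.mem_cons, List.not_mem_nil, or_false] at he; omega
  refine (involutions_conj (A := centralizer ({el e} : Set G)) (mem_centralizer_singleton_iff.2 (C.el_commute_z he').symm)
    hz (fun v hv hv2 hvz => ?_) (mem_centralizer_singleton_iff.2 hte) ht).2 u (mem_centralizer_singleton_iff.2 hue) hu htu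
  obtain ⟨c, hc, rfl⟩ := C.exists_code hvz
  have h3 : uMul c c = 0 := by
    have := pow_orderOf_eq_one (el c)
    rw [hv2, pow_two, C.el_mul hc hc, ← C.one] at this
    exact C.inj _ 0 (C.mul c c hc hc).1 (by norm_num) this
  rcases List.mem_cons.1 ((scan_at hc).2.1 e he
    ((C.el_comm_iff hc he').1 (mem_centralizer_singleton_iff.1 hv)) h3) with rfl | h
  · rw [C.one, orderOf_one] at hv2; omega
  · rw [List.mem_singleton.1 h]; exact C.z_eq

/-- The elements swapping two lines contradict a Sylow 3-subgroup of order nine. -/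
theorem no_nine (hz : orderOf z = 2) (hD : ¬ 27 ∣ Nat.card ↥(centralizer ({el aC} : Set G))) {g : G}
    (hF1 : Commute (el aC) (g⁻¹ * el aC * g)) (hF2 : g⁻¹ * (g⁻¹ * el aC * g) * g = el 712) : False := by
  classical
  haveI : Fact (Nat.Prime 3) := ⟨Nat.prime_three⟩
  obtain ⟨A, hA9, hA⟩ := exists_nine C
  obtain ⟨-, hgen, h11, h22, h71, h17, h81, -, hcube⟩ := aa_facts
  have hm := small_facts.2.2.2.2.2
  have hinv : (el aC)⁻¹ = el 712 := C.el_inv (by decide) (by decide) h17
  have ha3 : el aC ^ 3 = 1 := by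
    rw [pow_succ, pow_two, show el aC = el 1132 from rfl, C.el_mul (by decide) (by decide), h11,
      C.el_mul (by decide) (by decide), h71, C.one]
  have ha1 : el aC ≠ 1 := C.el_ne_one (by decide) (by decide)
  have hne2 : el aC ≠ (el aC)⁻¹ := fun h => ha1 (by
    rw [eq_inv_iff_mul_eq_one, ← pow_two] at h
    rw [pow_succ, h, one_mul] at ha3; exact ha3)
  set b := g⁻¹ * el aC * g with hb
  have hb3 : b ^ 3 = 1 := by
    rw [hb, show g⁻¹ * el aC * g = g⁻¹ * el aC * g⁻¹⁻¹ by rw [inv_inv], conj_pow, ha3]; simp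
  -- `⟨a, b⟩` goes into `A`
  set W := zpowers (el aC) ⊔ zpowers b with hW
  have hWp : IsPGroup 3 ↥W := by
    have hle : zpowers b ≤ normalizer ((zpowers (el aC) : Subgroup G) : Set G) := by
      refine le_trans ?_ (Subgroup.centralizer_le_normalizer _)
      rw [zpowers_le, mem_centralizer_iff]
      rintro _ ⟨i, rfl⟩
      exact (hF1.zpow_left i).eq
    refine IsPGroup.to_sup_of_normal_left' ?_ ?_ hle
    · intro x; exact ⟨1, by obtain ⟨i, hi⟩ := mem_zpowers_iff.1 x.2
                            refine Subtype.ext ?_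
                            rw [SubgroupClass.coe_pow, ← hi, pow_one, ← zpow_natCast, ← zpow_mul, mul_comm, zpow_mul,
                              zpow_natCast, ha3, one_zpow]; rfl⟩
    · intro x; exact ⟨1, by obtain ⟨i, hi⟩ := mem_zpowers_iff.1 x.2
                            refine Subtype.ext ?_
                            rw [SubgroupClass.coe_pow, ← hi, pow_one, ← zpow_natCast, ← zpow_mul, mul_comm, zpow_mul,
                              zpow_natCast, hb3, one_zpow]; rfl⟩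
  have hAp : IsPGroup 3 ↥A := IsPGroup.of_card (n := 2) (hA9.trans (by norm_num))
  obtain ⟨S, hS⟩ := hWp.exists_le_sylow
  let SA : Sylow 3 G := ⟨A, hAp, fun {Q} hQ hle => nine_maximal C hA hA9 hz hD hQ hle⟩
  obtain ⟨k, hk⟩ := MulAction.exists_smul_eq G S SA
  have hto : ∀ v ∈ W, k * v * k⁻¹ ∈ A := fun v hv => by
    show k * v * k⁻¹ ∈ (SA : Subgroup G)
    rw [← hk]
    exact ⟨v, hS hv, rfl⟩
  -- their images avoid the four other lines
  obtain ⟨F, hF4, hFmem⟩ := exists_four C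
  have hline : ∀ u : G, k * (u⁻¹ * el aC * u) * k⁻¹ ∈ A →
      ∃ c ∈ [712, 827, 1054, 1132], el c = k * (u⁻¹ * el aC * u) * k⁻¹ := by
    intro u hu
    obtain ⟨c, hc, hceq⟩ := (hA _).1 hu
    refine ⟨c, ?_, hceq⟩
    by_contra hcon
    have hne : c ≠ 0 := fun h => by
      rw [h, C.one] at hceq
      exact ha1 (conj_eq_one_iff.1 ((show k * u⁻¹ * el aC * (k * u⁻¹)⁻¹ = 1 by rw [hceq]; group)))
    have he : c ∈ [123, 300, 370, 480] := by
      simp only [aaCodes, List.mem_cons, List.not_mem_nil, or_false] at hc hcon ⊢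
      omega
    have hsq : ∀ d ∈ [1, 966], d < 1152 ∧ uMul d d = 0 ∧ d ≠ 0 ∧ uMul d aC = uMul aC d := by decide +kernel
    have hmv : ∀ d ∈ [1, 966], orderOf (k * u⁻¹ * el d * (k * u⁻¹)⁻¹) = 2 ∧ Commute (k * u⁻¹ * el d * (k * u⁻¹)⁻¹) (el c) := by
      intro d hd
      obtain ⟨hd1, hd2, hd3, hd4⟩ := hsq d hd
      refine ⟨?_, ?_⟩
      · rw [orderOf_conjugate]
        exact orderOf_eq_prime (by rw [pow_two, C.el_mul hd1 hd1, hd2, C.one]) (C.el_ne_one hd1 hd3)
      · rw [hceq, show k * (u⁻¹ * el aC * u) * k⁻¹ = k * u⁻¹ * el aC * (k * u⁻¹)⁻¹ by group]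
        exact ((C.el_comm_iff hd1 (by decide)).2 hd4).map (MulAut.conj (k * u⁻¹)).toMonoidHom
    have hcomm : Commute (k * u⁻¹ * el 966 * (k * u⁻¹)⁻¹) (k * u⁻¹ * el 1 * (k * u⁻¹)⁻¹) :=
      ((C.el_comm_iff (by decide) (by decide)).2 (by decide +kernel) : Commute (el 966) (el 1)).map
        (MulAut.conj (k * u⁻¹)).toMonoidHom
    have := no_four_other C hz he (hmv 1 (by simp)).1 (hmv 966 (by simp)).1 (hmv 1 (by simp)).2 (hmv 966 (by simp)).2 hcomm
    simp only [mul_left_inj, mul_right_inj] at this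
    exact absurd (C.inj 966 1 (by norm_num) (by norm_num) this) (by decide)
  obtain ⟨c, hc, hceq⟩ := hline 1 (hto _ (mem_sup_left (by simpa using mem_zpowers (el aC))))
  obtain ⟨d, hd, hdeq⟩ := hline g (hto _ (mem_sup_right (mem_zpowers b)))
  simp only [inv_one, one_mul, mul_one] at hceq
  rw [← hb] at hdeq
  set n := k * g⁻¹ * k⁻¹ with hn
  have h1 : n * el c * n⁻¹ = el d := by rw [hceq, hdeq, hn, hb]; group
  have h2 : n * el d * n⁻¹ = (el c)⁻¹ := by
    rw [hdeq, hceq, hn, show k * g⁻¹ * k⁻¹ * (k * b * k⁻¹) * (k * g⁻¹ * k⁻¹)⁻¹ = k * (g⁻¹ * b * g) * k⁻¹ by group,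
      hF2, ← hinv]
    group
  have hba : b ≠ el aC := fun h => hne2 (by have h' := hF2; rw [← hinv, h, ← hb, h] at h'; exact h')
  have hba' : b ≠ (el aC)⁻¹ := fun h => hne2 (by
    have h3 : g⁻¹ * b * g = b⁻¹ := by rw [h, inv_inv, show g⁻¹ * (el aC)⁻¹ * g = b⁻¹ by rw [hb]; group, h, inv_inv]
    rw [hF2, ← hinv, h, inv_inv] at h3
    exact h3.symm)
  have hcd : el d ≠ el c ∧ el d ≠ (el c)⁻¹ := by
    rw [hceq, hdeq]
    constructor
    · simpa using hba
    · rw [show (k * el aC * k⁻¹)⁻¹ = k * (el aC)⁻¹ * k⁻¹ by group]; simpa using hba'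
  have hinvx : (el 827)⁻¹ = el 1054 := C.el_inv (by decide) (by decide) h81
  have hinva : (el 712)⁻¹ = el 1132 := C.el_inv (by decide) (by decide) h71
  have hinva' : (el 1132)⁻¹ = el 712 := hinv
  have hinvx' : (el 1054)⁻¹ = el 827 := by rw [← hinvx, inv_inv]
  -- `n` normalises `A`
  have hgenA : el 1132 ∈ A ⊓ A.comap (MulAut.conj n).toMonoidHom ∧ el 1054 ∈ A ⊓ A.comap (MulAut.conj n).toMonoidHom := by
    set T := A ⊓ A.comap (MulAut.conj n).toMonoidHom
    have hcA : el c ∈ A := hceq ▸ hto _ (mem_sup_left (mem_zpowers _))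
    have hdA : el d ∈ A := hdeq ▸ hto _ (mem_sup_right (mem_zpowers _))
    have hcT : el c ∈ T := ⟨hcA, show n * el c * n⁻¹ ∈ A by rw [h1]; exact hdA⟩
    have hdT : el d ∈ T := ⟨hdA, show n * el d * n⁻¹ ∈ A by rw [h2]; exact inv_mem hcA⟩
    have hcT' := inv_mem hcT
    have hdT' := inv_mem hdT
    simp only [List.mem_cons, List.not_mem_nil, or_false] at hc hd
    rcases hc with rfl | rfl | rfl | rfl <;> rcases hd with rfl | rfl | rfl | rfl <;>
      simp only [hinva, hinva', hinvx, hinvx'] at hcd hcT' hdT' <;>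
      first
      | exact ⟨hcT, hdT⟩ | exact ⟨hcT', hdT⟩ | exact ⟨hcT, hdT'⟩ | exact ⟨hcT', hdT'⟩
      | exact ⟨hdT, hcT⟩ | exact ⟨hdT', hcT⟩ | exact ⟨hdT, hcT'⟩ | exact ⟨hdT', hcT'⟩
      | exact absurd rfl hcd.1 | exact absurd rfl hcd.2
  have hnA : ∀ v ∈ A, n * v * n⁻¹ ∈ A := by
    intro v hv
    obtain ⟨e, he, rfl⟩ := (hA v).1 hv
    have hT : el e ∈ A ⊓ A.comap (MulAut.conj n).toMonoidHom := by
      obtain ⟨i, hi, j, hj, rfl⟩ : ∃ i ∈ [0, 1132, 712], ∃ j ∈ [0, 1054, 827], uMul i j = e := by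
        obtain ⟨i, hi, h⟩ := List.mem_flatMap.1 (hgen e he)
        obtain ⟨j, hj, h⟩ := List.mem_map.1 h
        exact ⟨i, hi, j, hj, h⟩
      have hi' : i < 1152 ∧ el i ∈ A ⊓ A.comap (MulAut.conj n).toMonoidHom := by
        simp only [List.mem_cons, List.not_mem_nil, or_false] at hi
        rcases hi with rfl | rfl | rfl
        exacts [⟨by norm_num, C.one ▸ one_mem _⟩, ⟨by norm_num, hgenA.1⟩, ⟨by norm_num, hinva' ▸ inv_mem hgenA.1⟩]
      have hj' : j < 1152 ∧ el j ∈ A ⊓ A.comap (MulAut.conj n).toMonoidHom := by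
        simp only [List.mem_cons, List.not_mem_nil, or_false] at hj
        rcases hj with rfl | rfl | rfl
        exacts [⟨by norm_num, C.one ▸ one_mem _⟩, ⟨by norm_num, hgenA.2⟩, ⟨by norm_num, hinvx' ▸ inv_mem hgenA.2⟩]
      rw [← C.el_mul hi'.1 hj'.1]
      exact mul_mem hi'.2 hj'.2
    exact hT.2
  have key := normalizing_fixes C hA hz hnA
  have key' : n * el 712 * n⁻¹ = el 712 ∨ n * el 712 * n⁻¹ = el 1132 := by
    rw [← hinva']
    rcases key with h | h <;> rw [show n * (el 1132)⁻¹ * n⁻¹ = (n * el aC * n⁻¹)⁻¹ by simp only [aC]; group, h]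
    · exact Or.inl rfl
    · exact Or.inr hinva
  simp only [List.mem_cons, List.not_mem_nil, or_false] at hc hd
  have inj' : ∀ p q, p < 1152 → q < 1152 → el p = el q → p = q := C.inj
  simp only [show aC = 1132 from rfl] at key
  rcases hc with rfl | rfl | rfl | rfl <;> rcases hd with rfl | rfl | rfl | rfl <;>
    simp only [hinva, hinva', hinvx, hinvx'] at h1 h2 hcd <;>
    first
    | exact absurd rfl hcd.1
    | exact absurd rfl hcd.2
    | (rcases key with h | h <;> first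
        | (rw [h1] at h; exact absurd (inj' _ _ (by norm_num) (by norm_num) h) (by decide))
        | (rw [h2] at h; exact absurd (inj' _ _ (by norm_num) (by norm_num) h) (by decide)))
    | (rcases key' with h | h <;> first
        | (rw [h1] at h; exact absurd (inj' _ _ (by norm_num) (by norm_num) h) (by decide))
        | (rw [h2] at h; exact absurd (inj' _ _ (by norm_num) (by norm_num) h) (by decide)))

end CfsgLib.UFourType
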