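import Cfsg.Agent.Lib.UFourType.Basic
import Mathlib.Data.List.Range
import Mathlib.Tactic.Ring

/-!
Facts on the codes near the element of order three, and their translation to the group.
-/

set_option autoImplicit false
set_option maxRecDepth 20000

namespace CfsgLib.UFourType

/-- The elementary group of order nine. -/
def aaCodes : List ℕ := [0, 123, 300, 370, 480, 712, 827, 1054, 1132]

/-- Membership without decidable propositions. -/
def inCodes (l : List ℕ) (c : ℕ) : Bool := l.any (Nat.beq c)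

theorem inCodes_iff {l : List ℕ} {c : ℕ} : inCodes l c = true ↔ c ∈ l := by
  simp [inCodes, List.any_eq_true]

/-- The checks over all codes. -/
def threeScan : Bool :=
  (List.range 1152).all fun g =>
    (!Nat.beq (uMul g aC) (uMul aC g) || inCodes aCentCodes g) &&
    ([123, 300, 370, 480].all fun e => !Nat.beq (uMul g e) (uMul e g) || !Nat.beq (uMul g g) 0 || inCodes [0, 1] g) &&
    (!(inCodes (aaCodes.map fun v => uMul v g) (uMul g aC)) || !(inCodes (aaCodes.map fun v => uMul v g) (uMul g xC)) ||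
      inCodes [uMul aC g, uMul 712 g] (uMul g aC))

/-- The checks on short lists. -/
def threeSmall : Bool :=
  (aCentCodes.all fun c => decide (c < 1152) && Nat.beq (uMul c aC) (uMul aC c)) &&
  Nat.beq aCentCodes.length 36 &&
  Nat.beq (aCentCodes.filter fun c => Nat.beq (uMul c zaC) (uMul zaC c)).length 12 &&
  (aCentCodes.all fun c => !Nat.beq (uMul c xC) (uMul xC c) || !Nat.beq (uMul c c) 0 || inCodes [0, 1] c) &&
  (aCentCodes.all fun c => !Nat.beq (uMul c c) 0 || !Nat.beq (uMul c zaC) (uMul zaC c) || inCodes [0, 1, 966, 967] c) &&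
  (aaCodes.all fun c => decide (c < 1152) && (aaCodes.all fun d => inCodes aaCodes (uMul c d)))

theorem threeScan_true : threeScan = true := by decide +kernel

theorem threeSmall_true : threeSmall = true := by decide +kernel

theorem aCent_nodup : aCentCodes.Nodup := by decide +kernel

theorem aa_nodup : aaCodes.Nodup := by decide +kernel

variable {G : Type*} [Group G] {z : G} {el : ℕ → G} (C : Code z el)

include C

theorem Code.el_mul {c d : ℕ} (hc : c < 1152) (hd : d < 1152) : el c * el d = el (uMul c d) := (C.mul c d hc hd).2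

theorem Code.el_comm_iff {c d : ℕ} (hc : c < 1152) (hd : d < 1152) :
    Commute (el c) (el d) ↔ uMul c d = uMul d c := by
  rw [commute_iff_eq, C.el_mul hc hd, C.el_mul hd hc]
  exact ⟨fun h => C.inj _ _ (C.mul c d hc hd).1 (C.mul d c hd hc).1 h, fun h => by rw [h]⟩

theorem Code.el_commute_z {c : ℕ} (hc : c < 1152) : Commute (el c) z :=
  Subgroup.mem_centralizer_singleton_iff.1 (C.mem c hc)

theorem Code.exists_code {g : G} (hg : Commute g z) : ∃ c, c < 1152 ∧ el c = g :=
  C.surj g (Subgroup.mem_centralizer_singleton_iff.2 hg)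

theorem Code.el_inv {c d : ℕ} (hc : c < 1152) (hd : d < 1152) (h : uMul c d = 0) : (el c)⁻¹ = el d := by
  refine inv_eq_of_mul_eq_one_right ?_
  rw [C.el_mul hc hd, h, C.one]

theorem Code.el_ne_one {c : ℕ} (hc : c < 1152) (h0 : c ≠ 0) : el c ≠ 1 := fun h =>
  h0 (C.inj c 0 hc (by norm_num) (h.trans C.one.symm))

omit C in
theorem scan_at {g : ℕ} (hg : g < 1152) :
    (uMul g aC = uMul aC g → g ∈ aCentCodes) ∧
    (∀ e ∈ [123, 300, 370, 480], uMul g e = uMul e g → uMul g g = 0 → g ∈ [0, 1]) ∧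
    (uMul g aC ∈ aaCodes.map (fun v => uMul v g) → uMul g xC ∈ aaCodes.map (fun v => uMul v g) →
      uMul g aC ∈ [uMul aC g, uMul 712 g]) := by
  have h := List.all_eq_true.1 threeScan_true g (List.mem_range.2 hg)
  simp only [Bool.and_eq_true, Bool.or_eq_true, Bool.not_eq_true', List.all_eq_true] at h
  obtain ⟨⟨h1, h2⟩, h3⟩ := h
  refine ⟨fun e => ?_, fun e he e1 e2 => ?_, fun e1 e2 => ?_⟩
  · rcases h1 with h1 | h1
    · rw [e, Nat.beq_refl] at h1; simp at h1
    · exact inCodes_iff.1 h1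
  · rcases h2 e he with (h2 | h2) | h2
    · rw [e1, Nat.beq_refl] at h2; simp at h2
    · rw [e2, Nat.beq_refl] at h2; simp at h2
    · exact inCodes_iff.1 h2
  · rcases h3 with (h3 | h3) | h3
    · rw [inCodes_iff.2 e1] at h3; simp at h3
    · rw [inCodes_iff.2 e2] at h3; simp at h3
    · exact inCodes_iff.1 h3

omit C in
theorem small_facts :
    (∀ c ∈ aCentCodes, c < 1152 ∧ uMul c aC = uMul aC c) ∧ aCentCodes.length = 36 ∧
    (aCentCodes.filter fun c => Nat.beq (uMul c zaC) (uMul zaC c)).length = 12 ∧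
    (∀ c ∈ aCentCodes, uMul c xC = uMul xC c → uMul c c = 0 → c ∈ [0, 1]) ∧
    (∀ c ∈ aCentCodes, uMul c c = 0 → uMul c zaC = uMul zaC c → c ∈ [0, 1, 966, 967]) ∧
    (∀ c ∈ aaCodes, c < 1152 ∧ ∀ d ∈ aaCodes, uMul c d ∈ aaCodes) := by
  have h := threeSmall_true
  simp only [threeSmall, Bool.and_eq_true, List.all_eq_true, decide_eq_true_eq] at h
  obtain ⟨⟨⟨⟨⟨h1, h2⟩, h3⟩, h4⟩, h5⟩, h6⟩ := h
  refine ⟨fun c hc => ⟨(h1 c hc).1, Nat.eq_of_beq_eq_true (h1 c hc).2⟩, Nat.eq_of_beq_eq_true h2,
    Nat.eq_of_beq_eq_true h3, fun c hc e1 e2 => ?_, fun c hc e1 e2 => ?_,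
    fun c hc => ⟨(h6 c hc).1, fun d hd => inCodes_iff.1 ((h6 c hc).2 d hd)⟩⟩
  · have h := h4 c hc
    simp only [Bool.or_eq_true, Bool.not_eq_true'] at h
    rcases h with (h | h) | h
    · rw [e1, Nat.beq_refl] at h; simp at h
    · rw [e2, Nat.beq_refl] at h; simp at h
    · exact inCodes_iff.1 h
  · have h := h5 c hc
    simp only [Bool.or_eq_true, Bool.not_eq_true'] at h
    rcases h with (h | h) | h
    · rw [e1, Nat.beq_refl] at h; simp at h
    · rw [e2, Nat.beq_refl] at h; simp at h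
    · exact inCodes_iff.1 h

end CfsgLib.UFourType
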