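import Cfsg.Agent.Lib.UFourType.ThreeLocal.Small
import Cfsg.Agent.Lib.UFourType.ThreeLocal.Bad
import Cfsg.Agent.Lib.UFourType.Cert.Local

/-!
The commutator relation of the three-local subgroup.
-/

set_option autoImplicit false
set_option maxRecDepth 20000

namespace CfsgLib.UFourType

open Subgroup

/-- The codes used by the commutator relation. -/
theorem com_codes :
    uMul 5 5 = 0 ∧ uMul 416 224 = 0 ∧ uMul 1054 827 = 0 ∧ uMul (uMul 966 1054) 966 = 827 ∧
      uMul (uMul 967 1054) 967 = 827 ∧ uMul 966 966 = 0 ∧ uMul 967 967 = 0 ∧ uMul 1 1 = 0 ∧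
      uMul 1054 1132 = uMul 1132 1054 ∧ uMul 966 1132 = uMul 1132 966 ∧ uMul 966 1054 ≠ uMul 1054 966 ∧
      uMul (uMul 1054 1054) 1054 = 0 ∧ uMul 1054 1054 < 1152 ∧ uMul 966 1054 < 1152 ∧ uMul 967 1054 < 1152 := by
  decide +kernel

variable {G : Type*} [Group G] [Finite G] {z : G} {el : ℕ → G} {s : G}

/-- The centraliser of the element of order three has order 972. -/
theorem centralizer_a_card (C : Code z el) (S : Cyc el s)
    (hF1 : Commute (el 1132) ((s * el 24)⁻¹ * el 1132 * (s * el 24)))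
    (hF2 : (s * el 24)⁻¹ * ((s * el 24)⁻¹ * el 1132 * (s * el 24)) * (s * el 24) = el 712) :
    Nat.card ↥(centralizer ({el aC} : Set G)) = 972 := by
  classical
  obtain ⟨c55, c416, c1054, ci6, ci7, c66, c77, c11, cxa, c6a, c6x, cx3, hxx, h6x, h7x⟩ := com_codes
  obtain ⟨f1, f2, f3, f4, f5⟩ := Cert.Local.mEl_facts C S
  set m := mEl el s with hm0
  have hM : MRules el m := ⟨f1, f2, f3, f4, f5⟩
  have hz : orderOf z = 2 := by
    rw [← C.z_eq]
    exact orderOf_eq_prime (by rw [pow_two, zC, C.el_mul (by norm_num) (by norm_num), c11, C.one])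
      (C.el_ne_one (by decide) (by decide))
  let A : Subgroup ↥(centralizer ({el aC} : Set G)) := zpowers ⟨el aC, mem_centralizer_singleton_iff.2 rfl⟩
  haveI hAn : A.Normal := ⟨fun a ha d => by
    obtain ⟨i, rfl⟩ := mem_zpowers_iff.1 ha
    have h1 : Commute d (⟨el aC, mem_centralizer_singleton_iff.2 rfl⟩ : ↥(centralizer ({el aC} : Set G))) :=
      Subtype.ext (mem_centralizer_singleton_iff.1 d.2)
    rw [(h1.zpow_right i).eq, mul_inv_cancel_right]
    exact zpow_mem_zpowers _ i⟩
  obtain ⟨P, hP, hone, hcP, hcJ, hzP, hmemA, hA3⟩ := quotient_facts C hM (A := A) rfl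
  have hzD : el zC ∈ centralizer ({el aC} : Set G) :=
    mem_centralizer_singleton_iff.2 ((C.el_comm_iff (by decide) (by decide)).2 (by decide +kernel))
  obtain ⟨hJP, hJ2⟩ := hzP hzD
  have hDcard : Nat.card ↥(centralizer ({el aC} : Set G)) =
      Nat.card (↥(centralizer ({el aC} : Set G)) ⧸ A) * 3 := by
    rw [card_eq_card_quotient_mul_card_subgroup A, hA3]
  rcases order_cases P hP hone hJP hJ2 (hcJ _ hJ2) hcP with hX | hX | hX | hX
  rotate_left
  · exact (no_nine C hz (by rw [hDcard, hX]; norm_num) hF1 hF2).elim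
  · exact (no_nine C hz (by rw [hDcard, hX]; norm_num) hF1 hF2).elim
  · exact absurd hX (card_ne_sixteen_twenty P hP hone hcJ)
  rw [hDcard, hX]

/-- The element `xC` commutes with its conjugate by `mEl`. -/
theorem com_one (C : Code z el) (S : Cyc el s)
    (hF1 : Commute (el 1132) ((s * el 24)⁻¹ * el 1132 * (s * el 24)))
    (hF2 : (s * el 24)⁻¹ * ((s * el 24)⁻¹ * el 1132 * (s * el 24)) * (s * el 24) = el 712) :
    evW el s relCom = 1 := by
  classical
  obtain ⟨c55, c416, c1054, ci6, ci7, c66, c77, c11, cxa, c6a, c6x, cx3, hxx, h6x, h7x⟩ := com_codes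
  obtain ⟨f1, f2, f3, f4, f5⟩ := Cert.Local.mEl_facts C S
  set m := mEl el s with hm0
  have hM : MRules el m := ⟨f1, f2, f3, f4, f5⟩
  have hz : orderOf z = 2 := by
    rw [← C.z_eq]
    exact orderOf_eq_prime (by rw [pow_two, zC, C.el_mul (by norm_num) (by norm_num), c11, C.one])
      (C.el_ne_one (by decide) (by decide))
  let A : Subgroup ↥(centralizer ({el aC} : Set G)) := zpowers ⟨el aC, mem_centralizer_singleton_iff.2 rfl⟩
  haveI hAn : A.Normal := ⟨fun a ha d => by
    obtain ⟨i, rfl⟩ := mem_zpowers_iff.1 ha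
    have h1 : Commute d (⟨el aC, mem_centralizer_singleton_iff.2 rfl⟩ : ↥(centralizer ({el aC} : Set G))) :=
      Subtype.ext (mem_centralizer_singleton_iff.1 d.2)
    rw [(h1.zpow_right i).eq, mul_inv_cancel_right]
    exact zpow_mem_zpowers _ i⟩
  obtain ⟨P, hP, hone, hcP, hcJ, hzP, hmemA, hA3⟩ := quotient_facts C hM (A := A) rfl
  have hzD : el zC ∈ centralizer ({el aC} : Set G) :=
    mem_centralizer_singleton_iff.2 ((C.el_comm_iff (by decide) (by decide)).2 (by decide +kernel))
  obtain ⟨hJP, hJ2⟩ := hzP hzD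
  have hDcard : Nat.card ↥(centralizer ({el aC} : Set G)) =
      Nat.card (↥(centralizer ({el aC} : Set G)) ⧸ A) * 3 := by
    rw [card_eq_card_quotient_mul_card_subgroup A, hA3]
  rcases order_cases P hP hone hJP hJ2 (hcJ _ hJ2) hcP with hX | hX | hX | hX
  rotate_left
  · exact (no_nine C hz (by rw [hDcard, hX]; norm_num) hF1 hF2).elim
  · exact (no_nine C hz (by rw [hDcard, hX]; norm_num) hF1 hF2).elim
  · exact absurd hX (card_ne_sixteen_twenty P hP hone hcJ)
  have i5 : (el 5)⁻¹ = el 5 := C.el_inv (by norm_num) (by norm_num) c55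
  have i416 : (el 416)⁻¹ = el 224 := C.el_inv (by norm_num) (by norm_num) c416
  have ix : (el 1054)⁻¹ = el 827 := C.el_inv (by norm_num) (by norm_num) c1054
  have i6 : (el 966)⁻¹ = el 966 := C.el_inv (by norm_num) (by norm_num) c66
  have i7 : (el 967)⁻¹ = el 967 := C.el_inv (by norm_num) (by norm_num) c77
  have hx6 : el 966 * el 1054 * (el 966)⁻¹ = (el 1054)⁻¹ := by
    rw [i6, ix, C.el_mul (by norm_num) (by norm_num), C.el_mul h6x (by norm_num), ci6]
  have hx7 : el 967 * el 1054 * (el 967)⁻¹ = (el 1054)⁻¹ := by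
    rw [i7, ix, C.el_mul (by norm_num) (by norm_num), C.el_mul h7x (by norm_num), ci7]
  have hxz : Commute (el 1054) (el 1) := by
    rw [show el 1 = z from C.z_eq]; exact C.el_commute_z (by norm_num)
  have hm6 : m * el 966 * m⁻¹ = el 1 := by
    rw [show el 966 = el zaC from rfl, ← f3]; simp only [zC]; group
  have hm7 : m * el 967 * m⁻¹ = el 966 := by
    rw [← f4]; simp only [zaC]; group
  have hm1 : m * el 1 * m⁻¹ = el 967 := by
    rw [show el 1 = el zC from rfl, ← f5]; group
  set x := el 1054 with hx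
  set y := m⁻¹ * x * m with hy
  have hy7 : el 967 * y * (el 967)⁻¹ = y⁻¹ := by
    rw [hy, show el 967 * (m⁻¹ * x * m) * (el 967)⁻¹ = m⁻¹ * (m * el 967 * m⁻¹ * x * (m * el 967 * m⁻¹)⁻¹) * m by group,
      hm7, hx6]
    group
  have hy6 : el 966 * y * (el 966)⁻¹ = y := by
    rw [hy, show el 966 * (m⁻¹ * x * m) * (el 966)⁻¹ = m⁻¹ * (m * el 966 * m⁻¹ * x * (m * el 966 * m⁻¹)⁻¹) * m by group,
      hm6, ← hxz.eq, mul_inv_cancel_right]
  have hxa : Commute x (el aC) := (C.el_comm_iff (by norm_num) (by decide)).2 cxa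
  have hma : Commute m⁻¹ (el aC) := f1.inv_left
  have hya : Commute y (el aC) := (hma.mul_left hxa).mul_left f1
  let xD : ↥(centralizer ({el aC} : Set G)) := ⟨x, mem_centralizer_singleton_iff.2 hxa⟩
  let mD : ↥(centralizer ({el aC} : Set G)) := ⟨m, mem_centralizer_singleton_iff.2 f1⟩
  let jD : ↥(centralizer ({el aC} : Set G)) := ⟨el zC, hzD⟩
  have hz7 : mD * jD * mD⁻¹ = ⟨el 967, mem_centralizer_singleton_iff.2
      ((C.el_comm_iff (by norm_num) (by decide)).2 (by decide +kernel))⟩ := Subtype.ext hm1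
  have hx3 : xD ^ 3 = 1 := Subtype.ext (by
    show x ^ 3 = 1
    rw [hx, pow_succ, pow_two, C.el_mul (by norm_num) (by norm_num), C.el_mul hxx (by norm_num), cx3, C.one])
  have hxA : (QuotientGroup.mk' A xD) ≠ 1 := fun h => by
    obtain ⟨i, hi⟩ := mem_zpowers_iff.1 ((hmemA xD).1 ((QuotientGroup.eq_one_iff xD).1 h))
    have h6 : Commute (el 966) x := by
      show Commute (el 966) (xD : G)
      rw [← hi]
      exact ((C.el_comm_iff (by norm_num) (by decide)).2 c6a : Commute (el 966) (el aC)).zpow_right i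
    exact c6x ((C.el_comm_iff (by norm_num) (by norm_num)).1 h6)
  have hcom := commutator_eq_one P hP hone hcJ hX (j := QuotientGroup.mk' A jD) (x := QuotientGroup.mk' A xD)
    (m := QuotientGroup.mk' A mD) hJ2 (by rw [← map_pow, hx3, map_one]) hxA
    ((show Commute xD jD from Subtype.ext hxz.eq).map _) rfl rfl
    (by
      rw [← map_inv, ← map_mul, ← map_mul, hz7, ← map_inv, ← map_mul, ← map_mul, ← map_inv]
      exact congrArg _ (Subtype.ext hx7))
    (by
      simp only [← map_inv, ← map_mul]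
      rw [hz7]
      exact congrArg _ (Subtype.ext hy7))
  rw [← map_inv, ← map_inv, ← map_mul, ← map_mul, ← map_inv, ← map_mul, ← map_mul, ← map_mul,
    QuotientGroup.mk'_apply, QuotientGroup.eq_one_iff, hmemA] at hcom
  have hc : x * y * x⁻¹ * y⁻¹ ∈ zpowers (el aC) := hcom
  obtain ⟨i, hi⟩ := mem_zpowers_iff.1 hc
  have hc1 : x * y * x⁻¹ * y⁻¹ = 1 := by
    set c := x * y * x⁻¹ * y⁻¹ with hcdef
    have h6c : el 966 * c * (el 966)⁻¹ = c := by
      have hco : Commute (el 966) c := by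
        rw [← hi]
        exact ((C.el_comm_iff (by norm_num) (by decide)).2 c6a : Commute (el 966) (el aC)).zpow_right i
      rw [hco.eq, mul_inv_cancel_right]
    have h1 : el 966 * c * (el 966)⁻¹ = x⁻¹ * y * x * y⁻¹ := by
      rw [hcdef, show el 966 * (x * y * x⁻¹ * y⁻¹) * (el 966)⁻¹ = el 966 * x * (el 966)⁻¹ * (el 966 * y * (el 966)⁻¹) *
        (el 966 * x * (el 966)⁻¹)⁻¹ * (el 966 * y * (el 966)⁻¹)⁻¹ by group, hx6, hy6, inv_inv]
    have hcx : Commute c x := by rw [← hi]; exact (hxa.symm.zpow_left i)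
    have h2 : x⁻¹ * y * x * y⁻¹ = x⁻¹ * c⁻¹ * x := by rw [hcdef]; group
    rw [h2, mul_assoc x⁻¹, hcx.inv_left.eq, inv_mul_cancel_left, h6c] at h1
    have h3 : c ^ 3 = 1 := by
      rw [← hi, ← zpow_natCast, ← zpow_mul, mul_comm, zpow_mul, zpow_natCast]
      have : el aC ^ 3 = 1 := by
        have := pow_card_eq_one' (G := ↥A) (x := ⟨_, mem_zpowers _⟩)
        rw [hA3] at this
        exact congrArg (fun a : ↥A => ((a : ↥(centralizer ({el aC} : Set G))) : G)) this
      rw [this, one_zpow]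
    have h4 : c * c = 1 := mul_eq_one_iff_eq_inv.2 h1
    rw [pow_succ, pow_two, h4, one_mul] at h3
    exact h3
  rw [← hc1, hy, hm0]
  rw [hx]
  simp [mEl, mWord, relCom, evW, evL, mul_inv_rev, mul_assoc, i5, i416, inv_inv,
    (C.el_inv (by norm_num) (by norm_num) c1054 : (el 1054)⁻¹ = el 827),
    (by rw [← i416, inv_inv] : (el 224)⁻¹ = el 416),
    show (s ^ 2)⁻¹ = s from inv_eq_of_mul_eq_one_left (by rw [← pow_succ', S.cube]),
    show s⁻¹ = s ^ 2 from inv_eq_of_mul_eq_one_left (by rw [← pow_succ, S.cube])]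

/-- The commutator relation follows from the code and the cycling element. -/
theorem com_one_of_cyc (C : Code z el) (S : Cyc el s) : evW el s relCom = 1 :=
  com_one C S (Cert.Local.flip_facts C S).1 (Cert.Local.flip_facts C S).2

/-- The order 972 from the code and the cycling element. -/
theorem centralizer_a_card_of_cyc (C : Code z el) (S : Cyc el s) :
    Nat.card ↥(centralizer ({el aC} : Set G)) = 972 :=
  centralizer_a_card C S (Cert.Local.flip_facts C S).1 (Cert.Local.flip_facts C S).2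

end CfsgLib.UFourType
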