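import Cfsg.Agent.Lib.UFourType.ThreeLocal.Codes
import Cfsg.Agent.Lib.UFourType.ThreeCentraliser.Order

/-!
The centraliser of the element of order three: Sylow 2-subgroup, involution centraliser, possible orders.
-/

set_option autoImplicit false

namespace CfsgLib.UFourType

open Subgroup

variable {G : Type*} [Group G] [Finite G]

theorem orderOf_conjugate {H : Type*} [Group H] (g x : H) : orderOf (g * x * g⁻¹) = orderOf x :=
  MulEquiv.orderOf_eq (MulAut.conj g) x

/-- If `z` is the only involution commuting with `z` in `A`, every involution of `A` is conjugate to `z` in `A`,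
and is its only involution commuting with it. -/
theorem involutions_conj {A : Subgroup G} {z : G} (hzA : z ∈ A) (hz : orderOf z = 2)
    (huniq : ∀ t ∈ A, orderOf t = 2 → Commute t z → t = z) {t : G} (ht : t ∈ A) (ht2 : orderOf t = 2) :
    (∃ c ∈ A, c * z * c⁻¹ = t) ∧ ∀ u ∈ A, orderOf u = 2 → Commute u t → u = t := by
  haveI : Fact (Nat.Prime 2) := ⟨Nat.prime_two⟩
  have hzp : IsPGroup 2 (zpowers (⟨z, hzA⟩ : ↥A)) := IsPGroup.of_card (n := 1) (by
    rw [Nat.card_zpowers, ← Subgroup.orderOf_coe, pow_one]; exact hz)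
  obtain ⟨T, hT⟩ := hzp.exists_le_sylow
  set z' : ↥A := ⟨z, hzA⟩ with hz'
  have hzT : z' ∈ (T : Subgroup ↥A) := hT (mem_zpowers z')
  have hTz : (T : Subgroup ↥A) ≤ centralizer {z'} := by
    by_contra hcon
    haveI : Group.IsNilpotent ↥(T : Subgroup ↥A) := T.2.isNilpotent
    set Z : Subgroup ↥(T : Subgroup ↥A) := (centralizer {z'}).subgroupOf (T : Subgroup ↥A) with hZ
    have hlt : Z < normalizer (Z : Set ↥(T : Subgroup ↥A)) := normalizerCondition_of_isNilpotent _
      (lt_top_iff_ne_top.2 fun h => hcon (subgroupOf_eq_top.1 h))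
    obtain ⟨g, hgN, hgZ⟩ := SetLike.exists_of_lt hlt
    have h1 : g * ⟨z', hzT⟩ * g⁻¹ ∈ Z := (mem_normalizer_iff.1 hgN _).1 (mem_centralizer_singleton_iff.2 rfl)
    have h2 : Commute (((g * ⟨z', hzT⟩ * g⁻¹ : ↥(T : Subgroup ↥A)) : ↥A) : G) z :=
      congrArg Subtype.val (mem_centralizer_singleton_iff.1 (mem_subgroupOf.1 h1))
    have h3 := huniq _ (SetLike.coe_mem _) (by
      simp only [Subgroup.coe_mul, Subgroup.coe_inv]
      rw [orderOf_conjugate]; exact hz) h2
    apply hgZ
    rw [hZ, mem_subgroupOf, mem_centralizer_singleton_iff]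
    refine Subtype.ext ?_
    simp only [Subgroup.coe_mul, Subgroup.coe_inv] at h3 ⊢
    exact mul_inv_eq_iff_eq_mul.1 h3
  have hin : ∀ u : ↥A, orderOf (u : G) = 2 → ∃ c : ↥A, c * z' * c⁻¹ = u := by
    intro u hu
    obtain ⟨a, ha⟩ := CfsgLib.Invol.exists_mem_sylow_orderOf_two T (t := u) (by rw [← Subgroup.orderOf_coe]; exact hu)
    have h1 : ((a * u * a⁻¹ : ↥A) : G) = z :=
      huniq _ (SetLike.coe_mem _) (by simp only [Subgroup.coe_mul, Subgroup.coe_inv]; rw [orderOf_conjugate]; exact hu)
        (congrArg Subtype.val (mem_centralizer_singleton_iff.1 (hTz ha)))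
    exact ⟨a⁻¹, by rw [show z' = a * u * a⁻¹ from Subtype.ext h1.symm]; group⟩
  obtain ⟨c, hc⟩ := hin ⟨t, ht⟩ ht2
  have hct : (c : G) * z * (c : G)⁻¹ = t := congrArg Subtype.val hc
  refine ⟨⟨c, c.2, hct⟩, fun u hu hu2 hut => ?_⟩
  have h1 : (c : G)⁻¹ * u * c = z := huniq _ (mul_mem (mul_mem (inv_mem c.2) hu) c.2) (by
    rw [show (c : G)⁻¹ * u * c = (c : G)⁻¹ * u * (c : G)⁻¹⁻¹ by rw [inv_inv], orderOf_conjugate]; exact hu2) (by
    have h := hut.map (MulAut.conj (c : G)⁻¹).toMonoidHom
    rw [← hct] at h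
    simpa [mul_assoc] using h)
  rw [← hct, ← h1]; group

/-- The rules of the element moving the four-group inside the centraliser of the element of order three. -/
structure MRules (el : ℕ → G) (m : G) : Prop where
  comm : Commute m (el aC)
  cube : m ^ 3 = 1
  conj_z : m⁻¹ * el zC * m = el zaC
  conj_za : m⁻¹ * el zaC * m = el 967
  conj_zza : m⁻¹ * el 967 * m = el zC

variable {z : G} {el : ℕ → G} (C : Code z el)

include C

/-- The four-group. -/
theorem exists_four : ∃ F : Subgroup G, Nat.card ↥F = 4 ∧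
    (∀ g, g ∈ F ↔ g = 1 ∨ g = z ∨ g = el zaC ∨ g = el 967) := by
  have hz1 : el 1 = z := C.z_eq
  have hm : ∀ c ∈ [0, 1, 966, 967], ∀ d ∈ [0, 1, 966, 967], uMul c d ∈ [0, 1, 966, 967] ∧
      c < 1152 ∧ uMul c c = 0 := by decide +kernel
  let F : Subgroup G :=
    { carrier := {g | ∃ c ∈ [0, 1, 966, 967], el c = g}
      one_mem' := ⟨0, by simp, C.one⟩
      mul_mem' := by
        rintro _ _ ⟨c, hc, rfl⟩ ⟨d, hd, rfl⟩
        exact ⟨_, (hm c hc d hd).1, (C.el_mul (hm c hc d hd).2.1 (hm d hd c hc).2.1).symm⟩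
      inv_mem' := by
        rintro _ ⟨c, hc, rfl⟩
        exact ⟨c, hc, (C.el_inv (hm c hc c hc).2.1 (hm c hc c hc).2.1 (hm c hc c hc).2.2).symm⟩ }
  refine ⟨F, ?_, fun g => ?_⟩
  · classical
    have hset : (F : Set G) = el '' ↑([0, 1, 966, 967] : List ℕ).toFinset := by
      ext g
      simp only [F, Subgroup.coe_set_mk, Set.mem_setOf_eq, Set.mem_image, List.coe_toFinset]
      rfl
    rw [← SetLike.coe_sort_coe, Nat.card_coe_set_eq, hset, Set.InjOn.ncard_image, Set.ncard_coe_finset]
    · decide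
    · intro c hc d hd h
      simp only [List.coe_toFinset, Set.mem_setOf_eq] at hc hd
      exact C.inj c d (hm c hc c hc).2.1 (hm d hd d hd).2.1 h
  · constructor
    · rintro ⟨c, hc, rfl⟩
      simp only [List.mem_cons, List.not_mem_nil, or_false] at hc
      rcases hc with rfl | rfl | rfl | rfl
      exacts [Or.inl C.one, Or.inr (Or.inl hz1), Or.inr (Or.inr (Or.inl rfl)), Or.inr (Or.inr (Or.inr rfl))]
    · rintro (rfl | rfl | rfl | rfl)
      exacts [⟨0, by simp, C.one⟩, ⟨1, by simp, hz1⟩, ⟨zaC, by simp [zaC], rfl⟩, ⟨967, by simp, rfl⟩]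

/-- The centraliser of the element of order three meets that of `z` in 36 elements. -/
theorem card_centralizer_a_z :
    Nat.card ↥(centralizer {el aC} ⊓ centralizer ({z} : Set G)) = 36 ∧
    Nat.card ↥(centralizer {el aC} ⊓ centralizer ({z} : Set G) ⊓ centralizer {el zaC}) = 12 := by
  classical
  obtain ⟨hA, hlen, hlen12, -, -, -⟩ := small_facts
  have hmem : ∀ g : G, g ∈ centralizer {el aC} ⊓ centralizer ({z} : Set G) ↔ ∃ c ∈ aCentCodes, el c = g := by
    intro g
    rw [Subgroup.mem_inf, mem_centralizer_singleton_iff, mem_centralizer_singleton_iff]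
    constructor
    · rintro ⟨h1, h2⟩
      obtain ⟨c, hc, rfl⟩ := C.exists_code h2
      exact ⟨c, (scan_at hc).1 ((C.el_comm_iff hc (by decide)).1 h1), rfl⟩
    · rintro ⟨c, hc, rfl⟩
      exact ⟨(C.el_comm_iff (hA c hc).1 (by decide)).2 (hA c hc).2, C.el_commute_z (hA c hc).1⟩
  constructor
  · have hset : ((centralizer {el aC} ⊓ centralizer ({z} : Set G) : Subgroup G) : Set G) =
        el '' ↑aCentCodes.toFinset := by
      ext g
      rw [SetLike.mem_coe, hmem, List.coe_toFinset]
      rfl
    rw [← SetLike.coe_sort_coe, Nat.card_coe_set_eq, hset, Set.InjOn.ncard_image, Set.ncard_coe_finset,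
      List.toFinset_card_of_nodup aCent_nodup, hlen]
    intro c hc d hd h
    simp only [List.coe_toFinset, Set.mem_setOf_eq] at hc hd
    exact C.inj c d (hA c hc).1 (hA d hd).1 h
  · have hset : ((centralizer {el aC} ⊓ centralizer ({z} : Set G) ⊓ centralizer {el zaC} : Subgroup G) : Set G) =
        el '' ↑(aCentCodes.filter fun c => Nat.beq (uMul c zaC) (uMul zaC c)).toFinset := by
      ext g
      rw [SetLike.mem_coe, Subgroup.mem_inf, hmem, mem_centralizer_singleton_iff, List.coe_toFinset]
      simp only [Set.mem_image, Set.mem_setOf_eq, List.mem_filter]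
      constructor
      · rintro ⟨⟨c, hc, rfl⟩, h⟩
        exact ⟨c, ⟨hc, by rw [(C.el_comm_iff (hA c hc).1 (by decide)).1 h, Nat.beq_refl]⟩, rfl⟩
      · rintro ⟨c, ⟨hc, h⟩, rfl⟩
        exact ⟨⟨c, hc, rfl⟩, (C.el_comm_iff (hA c hc).1 (by decide)).2 (Nat.eq_of_beq_eq_true h)⟩
    rw [← SetLike.coe_sort_coe, Nat.card_coe_set_eq, hset, Set.InjOn.ncard_image, Set.ncard_coe_finset,
      List.toFinset_card_of_nodup (aCent_nodup.filter _), hlen12]
    intro c hc d hd h
    simp only [List.coe_toFinset, Set.mem_setOf_eq, List.mem_filter] at hc hd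
    exact C.inj c d (hA c hc.1).1 (hA d hd.1).1 h

/-- What is known of the centraliser `D` of the element of order three modulo that element. -/
theorem quotient_facts {m : G} (hm : MRules el m) {A : Subgroup ↥(centralizer ({el aC} : Set G))} [A.Normal]
    (hA : A = zpowers ⟨el aC, mem_centralizer_singleton_iff.2 rfl⟩) :
    ∃ P : Sylow 2 (↥(centralizer ({el aC} : Set G)) ⧸ A), IsKleinFour ↥P.toSubgroup ∧
      (∀ s t : ↥(centralizer ({el aC} : Set G)) ⧸ A, orderOf s = 2 → orderOf t = 2 → IsConj s t) ∧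
      Nat.card (centralizer (P.toSubgroup : Set (↥(centralizer ({el aC} : Set G)) ⧸ A))) = 4 ∧
      (∀ J : ↥(centralizer ({el aC} : Set G)) ⧸ A, orderOf J = 2 → Nat.card (centralizer ({J} : Set _)) = 12) ∧
      (∀ (h : el zC ∈ centralizer ({el aC} : Set G)), (QuotientGroup.mk ⟨el zC, h⟩ : _ ⧸ A) ∈ P.toSubgroup ∧
        orderOf (QuotientGroup.mk ⟨el zC, h⟩ : _ ⧸ A) = 2) ∧
      (∀ d : ↥(centralizer ({el aC} : Set G)), d ∈ A ↔ (d : G) ∈ zpowers (el aC)) ∧
      Nat.card ↥A = 3 := by
  classical
  haveI : Fact (Nat.Prime 2) := ⟨Nat.prime_two⟩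
  set π := QuotientGroup.mk' A with hπ
  have hπs : Function.Surjective π := QuotientGroup.mk'_surjective A
  obtain ⟨F, hF4, hFmem⟩ := exists_four C
  obtain ⟨h36, h12⟩ := card_centralizer_a_z C
  have hz1 : el 1 = z := C.z_eq
  have haD : ∀ c ∈ [0, 1, 966, 967], el c ∈ (centralizer ({el aC} : Set G)) := by
    intro c hc
    have : c < 1152 ∧ uMul c aC = uMul aC c := by revert c; decide +kernel
    exact mem_centralizer_singleton_iff.2 ((C.el_comm_iff this.1 (by decide)).2 this.2)
  have hFD : F ≤ (centralizer ({el aC} : Set G)) := fun g hg => by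
    rcases (hFmem g).1 hg with rfl | rfl | rfl | rfl
    exacts [one_mem _, hz1 ▸ haD 1 (by simp), haD 966 (by simp), haD 967 (by simp)]
  have hmD : m ∈ (centralizer ({el aC} : Set G)) := mem_centralizer_singleton_iff.2 hm.comm
  have hord2 : ∀ c ∈ [1, 966, 967], orderOf (el c) = 2 := by
    intro c hc
    have : c < 1152 ∧ uMul c c = 0 ∧ c ≠ 0 := by revert c; decide +kernel
    exact orderOf_eq_prime (by rw [pow_two, C.el_mul this.1 this.1, this.2.1, C.one]) (C.el_ne_one this.1 this.2.2)
  have hA3 : Nat.card ↥A = 3 := by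
    haveI : Fact (Nat.Prime 3) := ⟨Nat.prime_three⟩
    have h : uMul aC aC < 1152 ∧ uMul (uMul aC aC) aC = 0 := by decide +kernel
    have e : orderOf (el aC) = 3 := orderOf_eq_prime
      (by rw [pow_succ, pow_two, C.el_mul (by decide) (by decide), C.el_mul h.1 (by decide), h.2, C.one])
      (C.el_ne_one (by decide) (by decide))
    rw [hA, Nat.card_zpowers, ← Subgroup.orderOf_coe]
    exact e
  have hmemA : ∀ d : ↥(centralizer ({el aC} : Set G)), d ∈ A ↔ (d : G) ∈ zpowers (el aC) := fun d => by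
    rw [hA, mem_zpowers_iff, mem_zpowers_iff]
    exact exists_congr fun i => by rw [Subtype.ext_iff]; simp
  -- the four-group is a Sylow subgroup
  set F' := F.subgroupOf (centralizer ({el aC} : Set G)) with hF'
  have hF'card : Nat.card ↥F' = 4 := (Nat.card_congr (subgroupOfEquivOfLe hFD).toEquiv).trans hF4
  have hmax : ∀ Q : Subgroup ↥(centralizer ({el aC} : Set G)), IsPGroup 2 ↥Q → F' ≤ Q → Q = F' := by
    intro Q hQ hle
    by_contra hne
    haveI : Group.IsNilpotent ↥Q := hQ.isNilpotent
    have hlt : F'.subgroupOf Q < normalizer ((F'.subgroupOf Q : Subgroup ↥Q) : Set ↥Q) :=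
      normalizerCondition_of_isNilpotent _
        (lt_top_iff_ne_top.2 fun h => hne (le_antisymm (subgroupOf_eq_top.1 h) hle))
    obtain ⟨t, htN, htF⟩ := SetLike.exists_of_lt hlt
    -- conjugation of the three involutions by `t`
    set u : G := ((t : ↥(centralizer ({el aC} : Set G))) : G) with hu
    have huD : u ∈ (centralizer ({el aC} : Set G)) := (t : ↥(centralizer ({el aC} : Set G))).2
    have huN : ∀ g ∈ F, u * g * u⁻¹ ∈ F := fun g hg => by
      have h1 : (⟨g, hFD hg⟩ : ↥(centralizer ({el aC} : Set G))) ∈ Q := hle (show (⟨g, hFD hg⟩ : ↥(centralizer ({el aC} : Set G))) ∈ F' from hg)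
      exact (mem_normalizer_iff.1 htN ⟨_, h1⟩).1 (show g ∈ F from hg)
    have huF : u ∉ F := htF
    obtain ⟨k, hk⟩ := hQ t
    have huk : u ^ 2 ^ k = 1 := by
      have := congrArg (fun x : ↥Q => ((x : ↥(centralizer ({el aC} : Set G))) : G)) hk
      simpa [hu] using this
    -- it fixes one of them
    obtain ⟨c, hc, hcfix⟩ : ∃ c ∈ [1, 966, 967], Commute u (el c) := by
      by_contra hcon
      push Not at hcon
      have hne1 : ∀ c ∈ [1, 966, 967], u * el c * u⁻¹ ≠ el c := fun c hc h =>
        hcon c hc (mul_inv_eq_iff_eq_mul.1 h)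
      have himg : ∀ c ∈ [1, 966, 967], ∃ d ∈ [1, 966, 967], u * el c * u⁻¹ = el d := by
        intro c hc
        have hcF : el c ∈ F := (hFmem _).2 (by
          simp only [List.mem_cons, List.not_mem_nil, or_false] at hc
          rcases hc with rfl | rfl | rfl
          exacts [Or.inr (Or.inl hz1), Or.inr (Or.inr (Or.inl rfl)), Or.inr (Or.inr (Or.inr rfl))])
        rcases (hFmem _).1 (huN _ hcF) with h | h | h | h
        · exact absurd (conj_eq_one_iff.1 h) fun h1 => by
            have := hord2 c hc; rw [h1, orderOf_one] at this; omega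
        exacts [⟨1, by simp, h.trans hz1.symm⟩, ⟨966, by simp, h⟩, ⟨967, by simp, h⟩]
      choose! f hf hfu using himg
      have hiter : ∀ n, ∀ c ∈ [1, 966, 967], u ^ n * el c * (u ^ n)⁻¹ = el (f^[n] c) ∧ f^[n] c ∈ [1, 966, 967] := by
        intro n
        induction n with
        | zero => intro c hc; simp [hc]
        | succ n ih =>
          intro c hc
          obtain ⟨e1, e2⟩ := ih c hc
          rw [Function.iterate_succ', Function.comp, pow_succ', ← hfu _ e2, ← e1]
          exact ⟨by group, hf _ e2⟩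
      have hlt' : ∀ c ∈ [1, 966, 967], c < 1152 := by decide
      have hfix : ∀ c ∈ [1, 966, 967], f c ≠ c := fun c hc h => hne1 c hc (by rw [hfu c hc, h])
      have hinj : ∀ c ∈ [1, 966, 967], ∀ d ∈ [1, 966, 967], f c = f d → c = d := fun c hc d hd h =>
        C.inj c d (hlt' c hc) (hlt' d hd) (by
          have := (hfu c hc).trans (by rw [h, hfu d hd] : el (f c) = u * el d * u⁻¹)
          simpa using this)
      have key : (f 1 = 966 ∧ f 966 = 967 ∧ f 967 = 1) ∨ (f 1 = 967 ∧ f 966 = 1 ∧ f 967 = 966) := by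
        have a1 := hf 1 (by simp)
        have a2 := hf 966 (by simp)
        have a3 := hf 967 (by simp)
        have b1 := hfix 1 (by simp)
        have b2 := hfix 966 (by simp)
        have b3 := hfix 967 (by simp)
        have d1 := hinj 1 (by simp) 966 (by simp)
        have d2 := hinj 1 (by simp) 967 (by simp)
        have d3 := hinj 966 (by simp) 967 (by simp)
        simp only [List.mem_cons, List.not_mem_nil, or_false] at a1 a2 a3
        omega
      have h3 : ∀ c ∈ [1, 966, 967], f^[3] c = c ∧ f^[2] c ≠ c := by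
        intro c hc
        simp only [List.mem_cons, List.not_mem_nil, or_false] at hc
        show f (f (f c)) = c ∧ f (f c) ≠ c
        rcases key with ⟨k1, k2, k3⟩ | ⟨k1, k2, k3⟩ <;> rcases hc with rfl | rfl | rfl <;>
          (first | rw [k1, k2, k3] | rw [k2, k3, k1] | rw [k3, k1, k2] | rw [k1, k3, k2] | rw [k2, k1, k3] | rw [k3, k2, k1]) <;>
          omega
      have h1c : (1 : ℕ) ∈ [1, 966, 967] := by simp
      have hk' := (hiter (2 ^ k) 1 h1c).1
      rw [huk, one_mul, inv_one, mul_one] at hk'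
      have hfk : f^[2 ^ k] 1 = 1 := C.inj _ _ (hlt' _ (hiter _ 1 h1c).2) (by norm_num) hk'.symm
      obtain ⟨r, hr⟩ : ∃ r, 2 ^ k = 3 * r + 1 ∨ 2 ^ k = 3 * r + 2 := by
        refine ⟨2 ^ k / 3, ?_⟩
        have : ¬ 3 ∣ 2 ^ k := fun h => by
          have := Nat.prime_three.dvd_of_dvd_pow h; omega
        omega
      have h3r : ∀ r, ∀ c ∈ [1, 966, 967], f^[3 * r] c = c := by
        intro r
        induction r with
        | zero => intro c _; rfl
        | succ r ih => intro c hc; rw [Nat.mul_succ, Function.iterate_add_apply, (h3 c hc).1, ih c hc]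
      rcases hr with hr | hr <;> rw [hr, Function.iterate_add_apply] at hfk
      · rw [h3r r _ (hiter 1 1 h1c).2] at hfk; exact hfix 1 h1c hfk
      · rw [h3r r _ (hiter 2 1 h1c).2] at hfk; exact (h3 1 h1c).2 hfk
    -- move it to `z`
    obtain ⟨j, hj, hjF⟩ : ∃ j : G, j ∈ (centralizer ({el aC} : Set G)) ∧ (j * el c * j⁻¹ = z ∧ ∀ g ∈ F, j * g * j⁻¹ ∈ F) := by
      have e1 : m * el zaC * m⁻¹ = el zC := by rw [← hm.conj_z]; group
      have e2 : m * el 967 * m⁻¹ = el zaC := by rw [← hm.conj_za]; group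
      have e3 : m * el zC * m⁻¹ = el 967 := by rw [← hm.conj_zza]; group
      have hmF : ∀ g ∈ F, m * g * m⁻¹ ∈ F := fun g hg => by
        rcases (hFmem g).1 hg with rfl | rfl | rfl | rfl
        · simp
        · exact (hFmem _).2 (Or.inr (Or.inr (Or.inr (by rw [← C.z_eq]; exact e3))))
        · exact (hFmem _).2 (Or.inr (Or.inl (by rw [e1]; exact C.z_eq)))
        · exact (hFmem _).2 (Or.inr (Or.inr (Or.inl e2)))
      simp only [List.mem_cons, List.not_mem_nil, or_false] at hc
      rcases hc with rfl | rfl | rfl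
      · exact ⟨1, one_mem _, by simp [hz1], fun g hg => by simpa using hg⟩
      · exact ⟨m, hmD, by rw [show el 966 = el zaC from rfl, e1]; exact C.z_eq, hmF⟩
      · refine ⟨m * m, mul_mem hmD hmD, ?_, fun g hg => ?_⟩
        · rw [show m * m * el 967 * (m * m)⁻¹ = m * (m * el 967 * m⁻¹) * m⁻¹ by group, e2, e1]; exact C.z_eq
        · rw [show m * m * g * (m * m)⁻¹ = m * (m * g * m⁻¹) * m⁻¹ by group]; exact hmF _ (hmF _ hg)
    set φ := (MulAut.conj (⟨j, hj⟩ : ↥(centralizer ({el aC} : Set G)))).toMonoidHom with hφ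
    set Q' := (F' ⊔ zpowers (t : ↥(centralizer ({el aC} : Set G)))).map φ with hQ'
    have hQ'p : IsPGroup 2 ↥Q' := (hQ.to_le (sup_le hle (zpowers_le.2 t.2))).map _
    have hQ'le : Q' ≤ (centralizer ({z} : Set G)).subgroupOf (centralizer ({el aC} : Set G)) := by
      rw [hQ', map_le_iff_le_comap]
      refine sup_le (fun g hg => ?_) (zpowers_le.2 ?_)
      · rw [mem_comap, mem_subgroupOf, mem_centralizer_singleton_iff]
        have h1 : j * (g : G) * j⁻¹ ∈ F := hjF.2 _ hg
        show j * (g : G) * j⁻¹ * z = z * (j * (g : G) * j⁻¹)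
        have hcomm : ∀ x ∈ F, x * z = z * x := fun x hx => by
          rcases (hFmem x).1 hx with rfl | rfl | rfl | rfl
          exacts [by simp, rfl, C.el_commute_z (by decide), C.el_commute_z (by decide)]
        exact hcomm _ h1
      · rw [mem_comap, mem_subgroupOf, mem_centralizer_singleton_iff]
        show j * u * j⁻¹ * z = z * (j * u * j⁻¹)
        rw [← hjF.1]
        calc j * u * j⁻¹ * (j * el c * j⁻¹) = j * (u * el c) * j⁻¹ := by group
          _ = j * (el c * u) * j⁻¹ := by rw [hcfix.eq]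
          _ = _ := by group
    have h36' : Nat.card ↥((centralizer ({z} : Set G)).subgroupOf (centralizer ({el aC} : Set G))) = 36 := by
      rw [← h36, ← inf_subgroupOf_left, Nat.card_congr (subgroupOfEquivOfLe inf_le_left).toEquiv]
    have hd := Subgroup.card_dvd_of_le hQ'le
    rw [h36'] at hd
    obtain ⟨e, he⟩ := IsPGroup.iff_card.1 hQ'p
    have h8 : 4 < Nat.card ↥Q' := by
      rw [hQ', card_map_of_injective (MulAut.conj (⟨j, hj⟩ : ↥(centralizer ({el aC} : Set G)))).injective, ← hF'card]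
      refine lt_of_le_of_ne (Nat.le_of_dvd Nat.card_pos (Subgroup.card_dvd_of_le le_sup_left)) fun h => ?_
      have := eq_of_le_of_card_ge (show F' ≤ F' ⊔ zpowers (t : ↥(centralizer ({el aC} : Set G))) from le_sup_left) h.ge
      exact huF (this.ge (mem_sup_right (mem_zpowers _)))
    rw [he] at hd h8
    have : 3 ≤ e := by
      by_contra hcon
      interval_cases e <;> omega
    have := (Nat.pow_dvd_pow 2 this).trans hd
    omega
  have hF'p : IsPGroup 2 ↥F' := IsPGroup.of_card (n := 2) (hF'card.trans (by norm_num))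
  let S : Sylow 2 ↥(centralizer ({el aC} : Set G)) := ⟨F', hF'p, fun {Q} hQ hle => hmax Q hQ hle⟩
  have hSeq : (S.mapSurjective hπs).toSubgroup = F'.map π := rfl
  have hcent : ∀ d e : ↥(centralizer ({el aC} : Set G)), e ∈ A → Commute d e := fun d e he => by
    obtain ⟨i, hi⟩ := mem_zpowers_iff.1 ((hmemA e).1 he)
    refine Subtype.ext ?_
    show (d : G) * e = e * d
    rw [← hi]
    exact (Commute.zpow_right (mem_centralizer_singleton_iff.1 d.2) i).eq
  have hsmall : ∀ e : ↥(centralizer ({el aC} : Set G)), e ∈ A → e ^ 2 = 1 → e = 1 := fun e he he2 => by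
    have h3 : e ^ 3 = 1 := by
      have : (⟨e, he⟩ : ↥A) ^ 3 = 1 := hA3 ▸ pow_card_eq_one'
      exact congrArg Subtype.val this
    rw [pow_succ, he2, one_mul] at h3
    exact h3
  have hker : ∀ d, π d = 1 ↔ d ∈ A := fun d => QuotientGroup.eq_one_iff d
  -- centralisers of images of involutions
  have hCim : ∀ d e : ↥(centralizer ({el aC} : Set G)), d ^ 2 = 1 → Commute (π e) (π d) → Commute e d := by
    intro d e hd hed
    set k := e * d * e⁻¹ * d⁻¹ with hk
    have hkA : k ∈ A := (hker k).1 (by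
      rw [hk, map_mul, map_mul, map_mul, map_inv, map_inv, hed.eq, mul_inv_cancel_right, mul_inv_cancel])
    have h1 : e * d * e⁻¹ = k * d := by rw [hk]; group
    have h2 : k ^ 2 = 1 := by
      have h3 : (e * d * e⁻¹) ^ 2 = 1 := by rw [conj_pow, hd]; simp
      rw [h1, ((hcent d k hkA).symm).mul_pow, hd, mul_one] at h3
      exact h3
    rw [hsmall k hkA h2, one_mul, mul_inv_eq_iff_eq_mul] at h1
    exact h1
  have hcard : ∀ T : Subgroup ↥(centralizer ({el aC} : Set G)), A ≤ T →
      Nat.card ↥T = 3 * Nat.card ↥(T.map π) := by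
    intro T hT
    have e1 : (T.map π).comap π = T := by
      rw [comap_map_eq_self]; rw [hπ, QuotientGroup.ker_mk']; exact hT
    have e2 : (T.map π).index = T.index := by rw [← index_comap_of_surjective _ hπs, e1]
    have e3 := Subgroup.card_mul_index T
    have e4 := Subgroup.card_mul_index (T.map π)
    have e5 := Subgroup.card_eq_card_quotient_mul_card_subgroup A
    rw [hA3, ← e4, e2, ← e3] at e5
    refine Nat.eq_of_mul_eq_mul_right (Nat.pos_of_ne_zero T.index_ne_zero_of_finite) ?_
    rw [e5]; ring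
  -- lifts of involutions
  have hzD : el zC ∈ (centralizer ({el aC} : Set G)) := haD 1 (by simp)
  have hzsq : (⟨el zC, hzD⟩ : ↥(centralizer ({el aC} : Set G))) ^ 2 = 1 :=
    Subtype.ext (by rw [SubgroupClass.coe_pow, Subgroup.coe_one, ← hord2 1 (by simp)]; exact pow_orderOf_eq_one _)
  have hzF : el zC ∈ F := (hFmem _).2 (Or.inr (Or.inl C.z_eq))
  have hlift : ∀ s, orderOf s = 2 → IsConj (π ⟨el zC, hzD⟩) s := by
    intro s hs
    obtain ⟨d, rfl⟩ := hπs s
    have hd2 : π d * π d = 1 := by rw [← pow_two, ← hs]; exact pow_orderOf_eq_one _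
    have hd6 : (d ^ 3) ^ 2 = 1 := by
      rw [← pow_mul, mul_comm, pow_mul]
      have : d ^ 2 ∈ A := (hker _).1 (by rw [map_pow, pow_two, hd2])
      exact congrArg Subtype.val ((hA3 ▸ pow_card_eq_one' : (⟨d ^ 2, this⟩ : ↥A) ^ 3 = 1))
    have he3 : π (d ^ 3) = π d := by rw [map_pow, pow_succ, pow_two, hd2, one_mul]
    have hdne : π d ≠ 1 := fun h => by rw [h, orderOf_one] at hs; omega
    have hor : orderOf (d ^ 3) = 2 := orderOf_eq_prime hd6 fun h => hdne (by rw [← he3, h, map_one])
    obtain ⟨u, hu⟩ := CfsgLib.Invol.exists_mem_sylow_orderOf_two S hor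
    have hu' : ((u * d ^ 3 * u⁻¹ : ↥(centralizer ({el aC} : Set G))) : G) ∈ F := hu
    have hne : u * d ^ 3 * u⁻¹ ≠ 1 := fun h => by
      rw [conj_eq_one_iff] at h; rw [h, orderOf_one] at hor; omega
    have hmem : IsConj (⟨el zC, hzD⟩ : ↥(centralizer ({el aC} : Set G))) (u * d ^ 3 * u⁻¹) := by
      rcases (hFmem _).1 hu' with h | h | h | h
      · exact absurd (Subtype.ext h) hne
      · rw [show u * d ^ 3 * u⁻¹ = ⟨el zC, hzD⟩ from Subtype.ext (h.trans C.z_eq.symm)]
      · rw [isConj_iff]
        refine ⟨⟨m, hmD⟩⁻¹, Subtype.ext ?_⟩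
        simp only [Subgroup.coe_mul, Subgroup.coe_inv, inv_inv, h, hm.conj_z]
      · rw [isConj_iff]
        refine ⟨(⟨m, hmD⟩ * ⟨m, hmD⟩)⁻¹, Subtype.ext ?_⟩
        simp only [Subgroup.coe_mul, Subgroup.coe_inv, inv_inv, mul_inv_rev, h]
        rw [← hm.conj_za, ← hm.conj_z]; group
    have h7 := π.map_isConj (hmem.trans (IsConj.symm (isConj_iff.2 ⟨u, rfl⟩)))
    rwa [he3] at h7
  have hinjF : ∀ x ∈ F', π x = 1 → x = 1 := fun x hx h => by
    refine hsmall x ((hker x).1 h) (Subtype.ext ?_)
    rcases (hFmem _).1 (show (x : G) ∈ F from hx) with h | h | h | h <;>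
      simp only [SubgroupClass.coe_pow, Subgroup.coe_one, h, one_pow]
    · rw [← C.z_eq, ← hord2 1 (by simp)]; exact pow_orderOf_eq_one _
    · rw [← hord2 966 (by simp)]; exact pow_orderOf_eq_one _
    · rw [← hord2 967 (by simp)]; exact pow_orderOf_eq_one _
  have hsq : ∀ x ∈ F', x ^ 2 = 1 := fun x hx => by
    refine Subtype.ext ?_
    rcases (hFmem _).1 (show (x : G) ∈ F from hx) with h | h | h | h <;>
      simp only [SubgroupClass.coe_pow, Subgroup.coe_one, h, one_pow]
    · rw [← C.z_eq, ← hord2 1 (by simp)]; exact pow_orderOf_eq_one _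
    · rw [← hord2 966 (by simp)]; exact pow_orderOf_eq_one _
    · rw [← hord2 967 (by simp)]; exact pow_orderOf_eq_one _
  have h4 : Nat.card ↥(F'.map π) = 4 := by
    rw [← hF'card]
    exact (Nat.card_eq_of_bijective (π.subgroupMap F') ⟨fun x y hxy => by
      have h1 := congrArg Subtype.val hxy
      have h2 : π ((x * y⁻¹ : ↥F') : ↥(centralizer ({el aC} : Set G))) = 1 := by
        rw [Subgroup.coe_mul, Subgroup.coe_inv, map_mul, map_inv]
        exact mul_inv_eq_one.2 h1
      exact mul_inv_eq_one.1 (Subtype.ext (hinjF _ (SetLike.coe_mem _) h2)),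
      π.subgroupMap_surjective F'⟩).symm
  refine ⟨S.mapSurjective hπs, ⟨?_, ?_⟩, ?_, ?_, ?_, fun h => ⟨?_, ?_⟩, hmemA, hA3⟩
  · rw [hSeq]; exact h4
  · rw [hSeq]
    haveI : Nontrivial ↥(F'.map π) := Finite.one_lt_card_iff_nontrivial.1 (by omega)
    refine (Nat.prime_two.eq_one_or_self_of_dvd _ (Monoid.exponent_dvd_iff_forall_pow_eq_one.2 ?_)).resolve_left
      fun h => not_nontrivial_iff_subsingleton.2 (Monoid.exp_eq_one_iff.1 h) inferInstance
    rintro ⟨_, x, hx, rfl⟩
    exact Subtype.ext (by rw [SubgroupClass.coe_pow, Subgroup.coe_one, ← map_pow, hsq x hx, map_one])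
  · exact fun s t hs ht => ((hlift s hs).symm).trans (hlift t ht)
  · rw [hSeq]
    have hzaD : el zaC ∈ (centralizer ({el aC} : Set G)) := haD 966 (by simp)
    have e1 : centralizer ((F'.map π : Subgroup _) : Set (↥(centralizer ({el aC} : Set G)) ⧸ A)) =
        ((centralizer ({z} : Set G) ⊓ centralizer {el zaC}).subgroupOf (centralizer ({el aC} : Set G))).map π := by
      ext g
      constructor
      · intro hg
        obtain ⟨e, rfl⟩ := hπs g
        refine mem_map_of_mem _ (mem_subgroupOf.2 (mem_inf.2 ⟨?_, ?_⟩)) <;> rw [mem_centralizer_singleton_iff]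
        · have h1 := hCim _ e hzsq (mem_centralizer_iff.1 hg _ (mem_map_of_mem π (show (⟨el zC, hzD⟩ :
            ↥(centralizer ({el aC} : Set G))) ∈ F' from hzF))).symm
          have h2 := congrArg Subtype.val h1
          simp only [Subgroup.coe_mul] at h2
          rwa [C.z_eq] at h2
        · have hzaF : (⟨el zaC, hzaD⟩ : ↥(centralizer ({el aC} : Set G))) ∈ F' :=
            (hFmem _).2 (Or.inr (Or.inr (Or.inl rfl)))
          have h1 := hCim _ e (hsq _ hzaF) (mem_centralizer_iff.1 hg _ (mem_map_of_mem π hzaF)).symm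
          exact congrArg Subtype.val h1
      · rintro ⟨e, he, rfl⟩
        rw [SetLike.mem_coe, mem_subgroupOf, mem_inf, mem_centralizer_singleton_iff, mem_centralizer_singleton_iff] at he
        rw [mem_centralizer_iff]
        rintro _ ⟨x, hx, rfl⟩
        rw [← map_mul, ← map_mul]
        congr 1
        refine Subtype.ext ?_
        show (x : G) * e = e * x
        have hzza : el 967 = z * el zaC := by rw [← C.z_eq, C.el_mul (by decide) (by decide)]; rfl
        rcases (hFmem _).1 (show (x : G) ∈ F from hx) with h | h | h | h <;> rw [h]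
        · simp
        · exact he.1.symm
        · exact he.2.symm
        · rw [hzza]; exact ((show Commute (e : G) z from he.1).mul_right (show Commute (e : G) (el zaC) from he.2)).eq.symm
    have e2 := hcard _ (show A ≤ (centralizer ({z} : Set G) ⊓ centralizer {el zaC}).subgroupOf
        (centralizer ({el aC} : Set G)) from fun d hd => by
      obtain ⟨i, hi⟩ := mem_zpowers_iff.1 ((hmemA d).1 hd)
      rw [mem_subgroupOf, mem_inf, mem_centralizer_singleton_iff, mem_centralizer_singleton_iff, ← hi]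
      exact ⟨((C.el_commute_z (by decide)).zpow_left i).eq,
        (((C.el_comm_iff (by decide) (by decide)).2 (by decide +kernel) : Commute (el aC) (el zaC)).zpow_left i).eq⟩)
    rw [← inf_subgroupOf_left, ← inf_assoc, Nat.card_congr (subgroupOfEquivOfLe (inf_le_left.trans inf_le_left)).toEquiv,
      h12] at e2
    rw [e1]
    rw [← inf_subgroupOf_left, ← inf_assoc]
    omega
  · intro J hJ
    obtain ⟨g, hg⟩ := isConj_iff.1 (hlift J hJ)
    have e1 : centralizer ({π ⟨el zC, hzD⟩} : Set _) =
        ((centralizer ({z} : Set G)).subgroupOf (centralizer ({el aC} : Set G))).map π := by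
      ext x
      constructor
      · intro hx
        obtain ⟨e, rfl⟩ := hπs x
        refine mem_map_of_mem _ (mem_subgroupOf.2 (mem_centralizer_singleton_iff.2 ?_))
        have h2 := congrArg Subtype.val (hCim _ e hzsq (mem_centralizer_singleton_iff.1 hx))
        simp only [Subgroup.coe_mul] at h2
        rwa [C.z_eq] at h2
      · rintro ⟨e, he, rfl⟩
        rw [mem_centralizer_singleton_iff, ← map_mul, ← map_mul]
        congr 1
        refine Subtype.ext ?_
        show (e : G) * el zC = el zC * e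
        rw [C.z_eq]; exact mem_centralizer_singleton_iff.1 (mem_subgroupOf.1 he)
    have e2 := hcard _ (show A ≤ (centralizer ({z} : Set G)).subgroupOf (centralizer ({el aC} : Set G)) from fun d hd => by
      obtain ⟨i, hi⟩ := mem_zpowers_iff.1 ((hmemA d).1 hd)
      rw [mem_subgroupOf, mem_centralizer_singleton_iff, ← hi]
      exact ((C.el_commute_z (by decide)).zpow_left i).eq)
    rw [← inf_subgroupOf_left, Nat.card_congr (subgroupOfEquivOfLe inf_le_left).toEquiv, h36] at e2
    have e3 : centralizer ({J} : Set _) = (centralizer ({π ⟨el zC, hzD⟩} : Set _)).map (MulAut.conj g).toMonoidHom := by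
      ext x
      rw [mem_map_equiv, mem_centralizer_singleton_iff, mem_centralizer_singleton_iff, MulAut.conj_symm_apply, ← hg]
      constructor
      · intro h
        have := congrArg (fun y => g⁻¹ * y * g) h
        simpa [mul_assoc] using this
      · intro h
        have := congrArg (fun y => g * y * g⁻¹) h
        simpa [mul_assoc] using this
    rw [e3, card_map_of_injective (MulAut.conj g).injective, e1, ← inf_subgroupOf_left]
    omega
  · rw [hSeq]; exact mem_map_of_mem π hzF
  · refine orderOf_eq_prime ?_ fun h0 => ?_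
    · show (π ⟨el zC, h⟩) ^ 2 = 1
      rw [← map_pow, show (⟨el zC, h⟩ : ↥(centralizer ({el aC} : Set G))) ^ 2 = 1 from hzsq, map_one]
    · have := hinjF ⟨el zC, h⟩ hzF h0
      exact C.el_ne_one (by decide) (by decide) (congrArg Subtype.val this)

end CfsgLib.UFourType
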