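import Mathlib.GroupTheory.Transfer
import Mathlib.Data.Fintype.Perm
import Mathlib.Data.Fintype.Pi
import Mathlib.RingTheory.IntegralDomain
import Mathlib.GroupTheory.SpecificGroups.KleinFour
import Cfsg.Agent.Lib.Invol.ZStarBasic

/-!
Groups of order 324 and 1620 with a Klein four Sylow subgroup, one class of involutions and involution centralisers of order 12.
-/

set_option autoImplicit false

namespace CfsgLib.UFourType

open Subgroup

variable {X : Type*} [Group X] [Finite X]

/-- A subgroup covering a quotient has order divisible by that of the quotient. -/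
theorem card_range_dvd_of_sup_eq_top {H : Type*} [Group H] (φ : X →* H) (N : Subgroup X) (h : N ⊔ φ.ker = ⊤) :
    Nat.card ↥φ.range ∣ Nat.card ↥N := by
  have e : φ.range = N.map φ := by
    rw [MonoidHom.range_eq_map, ← h, Subgroup.map_sup, (Subgroup.map_eq_bot_iff _).2 le_rfl, sup_bot_eq]
  rw [e]; exact Subgroup.card_map_dvd N φ

/-- In the symmetric group of degree four no element of order three commutes with an involution. -/
theorem perm_four_commute (a b : Equiv.Perm (Fin 4)) (ha : a ^ 3 = 1) (hb : b ^ 2 = 1) (hb1 : b ≠ 1)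
    (hab : a * b = b * a) : a = 1 := by
  have key : ∀ a : Equiv.Perm (Fin 4), a ^ 3 = 1 → a ≠ 1 → ∀ b : Equiv.Perm (Fin 4), b ^ 2 = 1 → a * b = b * a → b = 1 := by
    decide +kernel
  by_contra h
  exact hb1 (key a ha h b hb hab)

variable (P : Sylow 2 X) (hP : IsKleinFour ↥(P : Subgroup X))

include hP

/-- Elements of `P` square to one. -/
theorem sq_of_mem_klein {t : X} (ht : t ∈ (P : Subgroup X)) : t ^ 2 = 1 := by
  haveI := hP
  rw [pow_two]; exact congrArg Subtype.val (IsKleinFour.mul_self (⟨t, ht⟩ : ↥(P : Subgroup X)))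

/-- No element of order four. -/
theorem sq_eq_one_of_pow_four {g : X} (hg : g ^ 4 = 1) : g ^ 2 = 1 := by
  haveI : Fact (Nat.Prime 2) := ⟨Nat.prime_two⟩
  obtain ⟨e, -, he⟩ := (Nat.dvd_prime_pow Nat.prime_two).1
    (show Nat.card ↥(zpowers g) ∣ 2 ^ 2 by rw [Nat.card_zpowers]; exact orderOf_dvd_of_pow_eq_one (by norm_num [hg]))
  obtain ⟨Q, hQ⟩ := (IsPGroup.of_card he).exists_le_sylow
  obtain ⟨c, hc⟩ := MulAction.exists_smul_eq X Q P
  have hmem : c * g * c⁻¹ ∈ (P : Subgroup X) := by
    rw [← hc]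
    exact ⟨g, hQ (mem_zpowers g), rfl⟩
  have := sq_of_mem_klein P hP hmem
  rwa [conj_pow, conj_eq_one_iff] at this

/-- A normal subgroup of even order contains all involutions, hence `P`. -/
theorem le_of_even_normal (hone : ∀ s t : X, orderOf s = 2 → orderOf t = 2 → IsConj s t) {N : Subgroup X} [N.Normal]
    (h : 2 ∣ Nat.card ↥N) : (P : Subgroup X) ≤ N := by
  haveI : Fact (Nat.Prime 2) := ⟨Nat.prime_two⟩
  obtain ⟨i, hi⟩ := exists_prime_orderOf_dvd_card' (G := ↥N) 2 h
  intro t ht
  by_cases h1 : t = 1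
  · simp [h1]
  obtain ⟨g, hg⟩ := isConj_iff.1 (hone i t (by rw [Subgroup.orderOf_coe]; exact hi)
    (orderOf_eq_prime (sq_of_mem_klein P hP ht) h1))
  rw [← hg]
  exact Subgroup.Normal.conj_mem ‹_› _ i.2 g

/-- There is no quotient of order four with odd kernel. -/
theorem card_range_ne_four (hone : ∀ s t : X, orderOf s = 2 → orderOf t = 2 → IsConj s t) {H : Type*} [Group H]
    (φ : X →* H) (hodd : ¬ 2 ∣ Nat.card ↥φ.ker) : Nat.card ↥φ.range ≠ 4 := by
  intro h4
  haveI : Fact (Nat.Prime 2) := ⟨Nat.prime_two⟩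
  have hcomm := IsPGroup.commutative_of_card_eq_prime_sq (p := 2) (G := ↥φ.range) (h4.trans (by norm_num))
  haveI := hP
  have h4P : Nat.card ↥(P : Subgroup X) = 4 := hP.card_four
  obtain ⟨a, b, ha, hb, hab⟩ : ∃ a b : ↥(P : Subgroup X), a ≠ 1 ∧ b ≠ 1 ∧ a ≠ b := by
    classical
    let _ := Fintype.ofFinite ↥(P : Subgroup X)
    by_contra hcon
    push Not at hcon
    by_cases hall : ∀ a : ↥(P : Subgroup X), a = 1
    · haveI : Subsingleton ↥(P : Subgroup X) := ⟨fun a b => (hall a).trans (hall b).symm⟩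
      rw [Nat.card_of_subsingleton 1] at h4P
      omega
    · push Not at hall
      obtain ⟨a, ha⟩ := hall
      have hsub : (Finset.univ : Finset ↥(P : Subgroup X)) ⊆ {1, a} := fun x _ => by
        by_cases hx : x = 1
        · simp [hx]
        · simp [hcon x a hx ha]
      have := (Finset.card_le_card hsub).trans Finset.card_le_two
      rw [Finset.card_univ, ← Nat.card_eq_fintype_card, h4P] at this
      omega
  have key : ∀ x : ↥(P : Subgroup X), x ≠ 1 → orderOf (x : X) = 2 := fun x hx =>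
    orderOf_eq_prime (sq_of_mem_klein P hP x.2) (by simpa using hx)
  obtain ⟨g, hg⟩ := isConj_iff.1 (hone a b (key a ha) (key b hb))
  have hφ : φ b = φ a := by
    rw [← hg, map_mul, map_mul, map_inv]
    have := congrArg Subtype.val (hcomm ⟨φ g, g, rfl⟩ ⟨φ a, a, rfl⟩)
    simp only [Subgroup.coe_mul] at this
    rw [this, mul_inv_cancel_right]
  have hmem : ((a * b⁻¹ : ↥(P : Subgroup X)) : X) ∈ φ.ker := by
    rw [MonoidHom.mem_ker, Subgroup.coe_mul, Subgroup.coe_inv, map_mul, map_inv, hφ, mul_inv_cancel]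
  have hne : a * b⁻¹ ≠ 1 := fun h => hab (mul_inv_eq_one.1 h)
  refine hodd ?_
  have := orderOf_dvd_natCard (⟨_, hmem⟩ : ↥φ.ker)
  rwa [← Subgroup.orderOf_coe, Subtype.coe_mk, key _ hne] at this

/-- A normaliser of a group of order five of order divisible by four is impossible. -/
theorem four_dvd_normalizer (no52 : ∀ u t : X, orderOf u = 5 → orderOf t = 2 → ¬ Commute u t) {u : X}
    (hu : orderOf u = 5) {N : Subgroup X} {H : Type*} [Group H] [IsCyclic H] (ψ : ↥N →* H)
    (hker : ∀ g : ↥N, ψ g = 1 → Commute (g : X) u) (h4 : 4 ∣ Nat.card ↥N) (hH : Nat.card H = 4) : False := by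
  haveI : Fact (Nat.Prime 2) := ⟨Nat.prime_two⟩
  haveI : Finite H := Nat.finite_of_card_ne_zero (by omega)
  obtain ⟨T, hT⟩ := Sylow.exists_subgroup_card_pow_prime (G := ↥N) 2 (n := 2) (by norm_num [h4])
  have hinj : Function.Injective (ψ.comp T.subtype) := by
    rw [injective_iff_map_eq_one]
    intro g hg
    by_contra hne
    have h1 : (((g : ↥N) : X)) ^ 4 = 1 := by
      have := pow_card_eq_one' (x := g)
      rw [hT] at this
      exact congrArg (fun x : ↥T => ((x : ↥N) : X)) this
    refine no52 u _ hu (orderOf_eq_prime (sq_eq_one_of_pow_four P hP h1) fun e => hne ?_) (hker _ hg).symm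
    exact Subtype.ext (Subtype.ext e)
  haveI : IsCyclic ↥T := isCyclic_of_injective _ hinj
  obtain ⟨g, hg⟩ := IsCyclic.exists_generator (α := ↥T)
  have h1 : orderOf g = 4 := (orderOf_eq_card_of_forall_mem_zpowers hg).trans (hT.trans (by norm_num))
  have h2 : (((g : ↥N) : X)) ^ 2 = 1 := by
    refine sq_eq_one_of_pow_four P hP ?_
    have := pow_orderOf_eq_one g
    rw [h1] at this
    exact congrArg (fun x : ↥T => ((x : ↥N) : X)) this
  have : g ^ 2 = 1 := Subtype.ext (Subtype.ext h2)
  have := orderOf_dvd_of_pow_eq_one this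
  rw [h1] at this
  omega

/-- The order 1620 does not occur. -/
theorem card_ne_sixteen_twenty (hone : ∀ s t : X, orderOf s = 2 → orderOf t = 2 → IsConj s t)
    (hcJ : ∀ J : X, orderOf J = 2 → Nat.card (centralizer ({J} : Set X)) = 12) : Nat.card X ≠ 1620 := by
  intro hcard
  classical
  haveI : Fact (Nat.Prime 2) := ⟨Nat.prime_two⟩
  haveI : Fact (Nat.Prime 5) := ⟨by norm_num⟩
  have no52 : ∀ u t : X, orderOf u = 5 → orderOf t = 2 → ¬ Commute u t := fun u t hu ht h => by
    have := orderOf_dvd_natCard (⟨u, mem_centralizer_singleton_iff.2 h⟩ : ↥(centralizer ({t} : Set X)))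
    rw [← Subgroup.orderOf_coe, Subtype.coe_mk, hu, hcJ t ht] at this
    omega
  obtain ⟨R⟩ := (inferInstance : Nonempty (Sylow 5 X))
  have hR5 : Nat.card ↥(R : Subgroup X) = 5 := by
    rw [R.card_eq_multiplicity, hcard, show (1620 : ℕ) = 5 * 324 by norm_num,
      Nat.factorization_mul (by norm_num) (by norm_num)]
    simp [Nat.factorization_eq_zero_of_not_dvd, Nat.Prime.factorization_self (by norm_num : Nat.Prime 5)]
  haveI hRcyc : IsCyclic ↥(R : Subgroup X) := isCyclic_of_prime_card hR5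
  set N := normalizer ((R : Subgroup X) : Set X) with hN
  set n := Nat.card (Sylow 5 X) with hn
  have hidx : n = N.index := Sylow.card_eq_index_normalizer R
  have hNn : Nat.card ↥N * n = 1620 := by
    rw [hidx, card_mul_index, hcard]
  have hmod : n % 5 = 1 := by
    have := card_sylow_modEq_one 5 X
    exact this
  have hdvd : n ∣ 324 := by
    have h1 : n ∣ (R : Subgroup X).index := R.card_dvd_index
    have h2 := card_mul_index (R : Subgroup X)
    rw [hR5, hcard] at h2
    have : (R : Subgroup X).index = 324 := by omega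
    rwa [this] at h1
  have hn4 : n = 1 ∨ n = 6 ∨ n = 36 ∨ n = 81 := by
    have := Nat.le_of_dvd (by norm_num) hdvd
    revert hmod hdvd this
    generalize n = k
    intro h1 h2 h3
    have : ∀ k < 325, k % 5 = 1 → 324 % k = 0 → k = 1 ∨ k = 6 ∨ k = 36 ∨ k = 81 := by decide +kernel
    exact this k (by omega) h1 (Nat.mod_eq_zero_of_dvd h2)
  set ψ := normalizerMonoidHom (R : Subgroup X) with hψ
  have hAut : Nat.card (MulAut ↥(R : Subgroup X)) = 4 := by
    rw [Nat.card_congr (IsCyclic.mulAutMulEquiv ↥(R : Subgroup X)).toEquiv, hR5]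
    simp [ZMod.card_units, Nat.totient_prime (by norm_num : Nat.Prime 5)]
  haveI : IsCyclic (MulAut ↥(R : Subgroup X)) := by
    rw [(IsCyclic.mulAutMulEquiv ↥(R : Subgroup X)).isCyclic, hR5]
    infer_instance
  obtain ⟨⟨u, huR⟩, hu0⟩ := exists_prime_orderOf_dvd_card' (G := ↥(R : Subgroup X)) 5 (by rw [hR5])
  have hu : orderOf u = 5 := by rw [← hu0, ← Subgroup.orderOf_coe]
  have hker : ∀ g : ↥N, ψ g = 1 → Commute (g : X) u := fun g hg => by
    have := congrArg Subtype.val (DFunLike.congr_fun hg (⟨u, huR⟩ : ↥(R : Subgroup X)))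
    exact mul_inv_eq_iff_eq_mul.1 this
  rcases hn4 with h | h | h | h
  · -- the normaliser contains a Sylow 2-subgroup
    rw [h, mul_one] at hNn
    exact four_dvd_normalizer P hP no52 hu ψ hker (by rw [hNn]; norm_num) hAut
  rotate_left
  · -- a normal complement
    rw [h] at hNn
    have hN45 : Nat.card ↥N = 45 := by omega
    have hcen : N ≤ centralizer ((R : Subgroup X) : Set X) := fun g hg => by
      have h1 : orderOf (ψ ⟨g, hg⟩) ∣ 45 := hN45 ▸ (orderOf_map_dvd ψ _).trans (orderOf_dvd_natCard _)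
      have h2 : orderOf (ψ ⟨g, hg⟩) ∣ 4 := hAut ▸ orderOf_dvd_natCard _
      have h3 : ψ ⟨g, hg⟩ = 1 := orderOf_eq_one_iff.1 (Nat.dvd_one.1 (Nat.dvd_gcd h1 h2))
      rw [mem_centralizer_iff]
      intro r hr
      have := congrArg Subtype.val (DFunLike.congr_fun h3 (⟨r, hr⟩ : ↥(R : Subgroup X)))
      exact (mul_inv_eq_iff_eq_mul.1 this).symm
    set M := (MonoidHom.transferSylow R hcen).ker with hM
    have hcompl : IsComplement' M (R : Subgroup X) := MonoidHom.ker_transferSylow_isComplement' R hcen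
    have hM324 : Nat.card ↥M = 324 := by
      have := hcompl.card_mul
      rw [hR5, hcard] at this; omega
    haveI : M.Normal := by rw [hM]; infer_instance
    have hPM : (P : Subgroup X) ≤ M := le_of_even_normal P hP hone (by rw [hM324]; norm_num)
    have hsup := Sylow.normalizer_sup_eq_top (P.subtype hPM)
    rw [Sylow.coe_subtype, subgroupOf_map_subtype, inf_eq_left.2 hPM] at hsup
    have h5 : 5 ∣ Nat.card ↥(normalizer ((P : Subgroup X) : Set X)) := by
      refine dvd_trans ?_ (card_range_dvd_of_sup_eq_top (QuotientGroup.mk' M) _ (by rwa [QuotientGroup.ker_mk']))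
      rw [MonoidHom.range_eq_top.2 (QuotientGroup.mk'_surjective M), card_top]
      have := card_eq_card_quotient_mul_card_subgroup M
      rw [hcard, hM324] at this
      omega
    obtain ⟨v, hv⟩ := exists_prime_orderOf_dvd_card' 5 h5
    haveI := hP
    set χ : ↥(normalizer ((P : Subgroup X) : Set X)) →* Equiv.Perm ↥(P : Subgroup X) :=
      (MulAut.toPerm _).comp (normalizerMonoidHom (P : Subgroup X)) with hχ
    have hv1 : χ v = 1 := by
      have e1 : orderOf (χ v) ∣ 5 := hv ▸ orderOf_map_dvd χ v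
      have e2 : orderOf (χ v) ∣ 24 := by
        refine (_root_.orderOf_dvd_natCard _).trans (dvd_of_eq ?_)
        rw [Nat.card_perm, hP.card_four]; rfl
      exact orderOf_eq_one_iff.1 (Nat.dvd_one.1 (Nat.dvd_gcd e1 e2))
    obtain ⟨t, ht⟩ := exists_prime_orderOf_dvd_card' (G := ↥(P : Subgroup X)) 2 (by rw [hP.card_four]; norm_num)
    have := congrArg Subtype.val (Equiv.ext_iff.1 hv1 t)
    exact no52 v t (by rw [Subgroup.orderOf_coe]; exact hv) (by rw [Subgroup.orderOf_coe]; exact ht)
      (mul_inv_eq_iff_eq_mul.1 this)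
  · rw [h] at hNn
    exact four_dvd_normalizer P hP no52 hu ψ hker (by rw [show Nat.card ↥N = 20 by omega]; norm_num) hAut
  · -- six Sylow subgroups
    rw [h] at hNn
    have hN270 : Nat.card ↥N = 270 := by omega
    set φ := MulAction.toPermHom X (Sylow 5 X) with hφ
    set K := φ.ker with hK
    have hKN : ∀ (Q : Sylow 5 X) (k : X), k ∈ K → k ∈ normalizer ((Q : Subgroup X) : Set X) := fun Q k hk =>
      Sylow.smul_eq_iff_mem_normalizer.1 (Equiv.ext_iff.1 hk Q)
    have hK5 : ¬ 5 ∣ Nat.card ↥K := fun hd => by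
      obtain ⟨⟨w, hwK⟩, hw0⟩ := exists_prime_orderOf_dvd_card' (G := ↥K) 5 hd
      have hw : orderOf w = 5 := by rw [← hw0, ← Subgroup.orderOf_coe]
      have hall : ∀ Q : Sylow 5 X, (Q : Subgroup X) = zpowers w := fun Q => by
        have hwQ : w ∈ (Q : Subgroup X) := by
          have h1 : zpowers w ⊓ normalizer ((Q : Subgroup X) : Set X) = zpowers w ⊓ (Q : Subgroup X) :=
            IsPGroup.inf_normalizer_sylow (IsPGroup.of_card (n := 1) (by rw [Nat.card_zpowers, hw, pow_one])) Q
          exact (h1.le ⟨mem_zpowers w, hKN Q w hwK⟩).2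
        refine (eq_of_le_of_card_ge (zpowers_le.2 hwQ) ?_).symm
        rw [Nat.card_zpowers, hw, Q.card_eq_multiplicity, ← R.card_eq_multiplicity, hR5]
      haveI : Subsingleton (Sylow 5 X) := ⟨fun Q Q' => Sylow.ext ((hall Q).trans (hall Q').symm)⟩
      rw [hn, Nat.card_of_subsingleton R] at h
      omega
    have hKd : Nat.card ↥K ∣ 270 := hN270 ▸ Subgroup.card_dvd_of_le (fun k hk => hKN R k hk)
    have hK2 : ¬ 2 ∣ Nat.card ↥K := fun hd => by
      have := (Subgroup.card_dvd_of_le (le_of_even_normal P hP hone hd)).trans hKd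
      rw [hP.card_four] at this; omega
    have hK9 : 9 ∣ Nat.card ↥K := by
      have h1 : Nat.card ↥φ.range ∣ 720 := by
        refine (Subgroup.card_subgroup_dvd_card _).trans (dvd_of_eq ?_)
        rw [Nat.card_perm, ← hn, h]; rfl
      have h2 := card_eq_card_quotient_mul_card_subgroup K
      rw [Nat.card_congr (QuotientGroup.quotientKerEquivRange φ).toEquiv, hcard] at h2
      have h3 : Nat.card ↥φ.range ∣ 180 := (Nat.dvd_gcd h1 ⟨_, h2⟩).trans (by norm_num)
      obtain ⟨e, he⟩ := h3
      exact ⟨e, Nat.eq_of_mul_eq_mul_left (Nat.card_pos (α := ↥φ.range)) (by rw [← h2, ← mul_assoc, mul_comm _ 9, mul_assoc, ← he]; norm_num)⟩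
    -- the centraliser of `K` contains every Sylow 5-subgroup
    have hKc : (R : Subgroup X) ≤ centralizer (K : Set X) := fun r hr => by
      rw [mem_centralizer_iff]
      intro k hk
      have hcop : (R : Subgroup X) ⊓ K = ⊥ := inf_eq_bot_of_coprime (by
        rw [hR5]; exact ((Nat.Prime.coprime_iff_not_dvd (by norm_num)).2 hK5))
      have hR : k * r * k⁻¹ * r⁻¹ ∈ (R : Subgroup X) :=
        mul_mem ((mem_normalizer_iff.1 (hKN R k hk) r).1 hr) (inv_mem hr)
      have hK' : k * r * k⁻¹ * r⁻¹ ∈ K := by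
        rw [show k * r * k⁻¹ * r⁻¹ = k * (r * k⁻¹ * r⁻¹) by group]
        exact mul_mem hk ((inferInstance : K.Normal).conj_mem _ (inv_mem hk) r)
      have := (hcop.le ⟨hR, hK'⟩ : k * r * k⁻¹ * r⁻¹ ∈ (⊥ : Subgroup X))
      exact mul_inv_eq_iff_eq_mul.1 (mul_inv_eq_one.1 (mem_bot.1 this))
    haveI : K.Normal := by rw [hK]; infer_instance
    set CK := centralizer (K : Set X) with hCK
    have hsup := Sylow.normalizer_sup_eq_top (R.subtype hKc)
    rw [Sylow.coe_subtype, subgroupOf_map_subtype, inf_eq_left.2 hKc] at hsup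
    have h2CK : 2 ∣ Nat.card ↥CK := by
      have h1 := card_range_dvd_of_sup_eq_top (QuotientGroup.mk' CK) N (by rwa [QuotientGroup.ker_mk'])
      rw [MonoidHom.range_eq_top.2 (QuotientGroup.mk'_surjective CK), card_top, hN270] at h1
      have h2 := card_eq_card_quotient_mul_card_subgroup CK
      rw [hcard] at h2
      obtain ⟨e, he⟩ := h1
      refine Dvd.dvd.trans (show 2 ∣ 6 * e by omega) ⟨1, Nat.eq_of_mul_eq_mul_left (Nat.card_pos (α := X ⧸ CK)) ?_⟩
      rw [← h2, mul_one, ← mul_assoc, mul_comm _ 6, mul_assoc, ← he]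
      norm_num
    obtain ⟨t, ht⟩ := exists_prime_orderOf_dvd_card' (G := ↥CK) 2 h2CK
    have hle : K ≤ centralizer ({(t : X)} : Set X) := fun k hk =>
      mem_centralizer_singleton_iff.2 (mem_centralizer_iff.1 t.2 k hk)
    have := hK9.trans (Subgroup.card_dvd_of_le hle)
    rw [hcJ t (by rw [Subgroup.orderOf_coe]; exact ht)] at this
    omega

/-- In a group of order 324 the element centralised by one involution and its conjugate commute. -/
theorem commutator_eq_one (hone : ∀ s t : X, orderOf s = 2 → orderOf t = 2 → IsConj s t)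
    (hcJ : ∀ J : X, orderOf J = 2 → Nat.card (centralizer ({J} : Set X)) = 12) (hcard : Nat.card X = 324)
    {j x m y i : X} (hj : orderOf j = 2) (hx3 : x ^ 3 = 1) (hx1 : x ≠ 1) (hxj : Commute x j)
    (hy : y = m⁻¹ * x * m) (hi : i = m * j * m⁻¹) (hix : i * x * i⁻¹ = x⁻¹) (hiy : i * y * i⁻¹ = y⁻¹) :
    x * y * x⁻¹ * y⁻¹ = 1 := by
  classical
  haveI : Fact (Nat.Prime 3) := ⟨Nat.prime_three⟩
  obtain ⟨R⟩ := (inferInstance : Nonempty (Sylow 3 X))
  set φ := MulAction.toPermHom X (Sylow 3 X) with hφ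
  set K := φ.ker with hK
  haveI : K.Normal := by rw [hK]; infer_instance
  have hR : Nat.card ↥(R : Subgroup X) = 81 := by
    rw [R.card_eq_multiplicity, hcard, show (324 : ℕ) = 3 ^ 4 * 4 by norm_num,
      Nat.factorization_mul (by norm_num) (by norm_num), Nat.factorization_pow]
    simp [ Nat.factorization_eq_zero_of_not_dvd, Nat.Prime.factorization_self Nat.prime_three]
  set n := Nat.card (Sylow 3 X) with hn
  have hn4 : n = 4 := by
    have h1 : n ∣ (R : Subgroup X).index := R.card_dvd_index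
    have h2 := card_mul_index (R : Subgroup X)
    rw [hR, hcard] at h2
    rw [show (R : Subgroup X).index = 4 by omega] at h1
    have h3 : n % 3 = 1 := card_sylow_modEq_one 3 X
    have h4 := Nat.le_of_dvd (by norm_num) h1
    by_contra hne
    have h5 : n = 1 := by
      interval_cases n <;> omega
    have hRn : (R : Subgroup X).Normal := by
      refine normalizer_eq_top_iff.1 (index_eq_one.1 ?_)
      exact (Sylow.card_eq_index_normalizer R).symm.trans (hn.symm.trans h5)
    refine card_range_ne_four P hP hone (QuotientGroup.mk' (R : Subgroup X)) (by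
      rw [QuotientGroup.ker_mk', hR]; norm_num) ?_
    rw [MonoidHom.range_eq_top.2 (QuotientGroup.mk'_surjective _), card_top]
    have := card_eq_card_quotient_mul_card_subgroup (R : Subgroup X)
    rw [hR, hcard] at this
    omega
  have hrK := card_eq_card_quotient_mul_card_subgroup K
  rw [Nat.card_congr (QuotientGroup.quotientKerEquivRange φ).toEquiv, hcard] at hrK
  have hK27 : Nat.card ↥K = 27 := by
    have h1 : Nat.card ↥φ.range ∣ 24 := by
      refine (Subgroup.card_subgroup_dvd_card _).trans (dvd_of_eq ?_)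
      rw [Nat.card_perm, ← hn, hn4]; rfl
    have h2 : 4 ∣ Nat.card ↥φ.range := by
      have e1 : K ≤ normalizer ((R : Subgroup X) : Set X) := fun k hk =>
        Sylow.smul_eq_iff_mem_normalizer.1 (Equiv.ext_iff.1 hk R)
      have e2 := index_dvd_of_le e1
      rw [show (normalizer ((R : Subgroup X) : Set X)).index = 4 from
          (Sylow.card_eq_index_normalizer R).symm.trans (hn.symm.trans hn4), index_eq_card,
        Nat.card_congr (QuotientGroup.quotientKerEquivRange φ).toEquiv] at e2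
      exact e2
    have h3 : Nat.card ↥φ.range ∣ 12 := (Nat.dvd_gcd h1 ⟨_, hrK⟩).trans (by norm_num)
    have h4 := Nat.le_of_dvd (by norm_num) h3
    obtain ⟨e, he⟩ := h2
    rcases (by omega : Nat.card ↥φ.range = 4 ∨ Nat.card ↥φ.range = 12 ∨ e = 2 ∨ e = 0) with h | h | h | h
    · refine absurd h (card_range_ne_four P hP hone φ ?_)
      rw [h] at hrK
      rw [← hK, show Nat.card ↥K = 81 by omega]; norm_num
    · rw [h] at hrK; omega
    · rw [he, h] at h3; omega
    · rw [he, h] at hrK; omega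
  -- `x` lies in `K`
  have hxK : x ∈ K := by
    let e := (Finite.equivFinOfCardEq (n := 4) (hn.symm.trans hn4)).permCongrHom
    have := perm_four_commute (e (φ x)) (e (φ j)) (by rw [← map_pow, ← map_pow, hx3, map_one, map_one])
      (by rw [← map_pow, ← map_pow, ← hj, pow_orderOf_eq_one, map_one, map_one]) (fun h => ?_)
      (by rw [← map_mul, ← map_mul, ← map_mul, ← map_mul, hxj.eq])
    · rw [hK, MonoidHom.mem_ker]
      exact e.injective (this.trans (map_one e).symm)
    · have hjK : j ∈ K := by rw [hK, MonoidHom.mem_ker]; exact e.injective (h.trans (map_one e).symm)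
      have := orderOf_dvd_natCard (⟨j, hjK⟩ : ↥K)
      rw [← Subgroup.orderOf_coe, Subtype.coe_mk, hj, hK27] at this
      omega
  have hyK : y ∈ K := by
    rw [hy, show m⁻¹ * x * m = m⁻¹ * x * m⁻¹⁻¹ by rw [inv_inv]]
    exact Subgroup.Normal.conj_mem ‹_› _ hxK _
  have hcK : x * y * x⁻¹ * y⁻¹ ∈ K := mul_mem (mul_mem (mul_mem hxK hyK) (inv_mem hxK)) (inv_mem hyK)
  -- commutators of `K` are central in it
  have hKcent : ∀ k ∈ K, Commute (x * y * x⁻¹ * y⁻¹) k := by
    intro k hk
    have hcomm : ∀ a b : ↥K ⧸ center ↥K, a * b = b * a := by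
      have h27 : IsPGroup 3 ↥K := IsPGroup.of_card (n := 3) (hK27.trans (by norm_num))
      haveI : Nontrivial ↥K := Finite.one_lt_card_iff_nontrivial.1 (by omega)
      haveI := h27.center_nontrivial
      have h1 : 1 < Nat.card ↥(center ↥K) := Finite.one_lt_card
      have h2 := card_eq_card_quotient_mul_card_subgroup (center ↥K)
      rw [hK27] at h2
      obtain ⟨d, hd, hdq⟩ := (Nat.dvd_prime_pow Nat.prime_three).1 (show Nat.card (↥K ⧸ center ↥K) ∣ 3 ^ 3 from ⟨_, h2⟩)
      rw [hdq] at h2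
      interval_cases d
      · haveI : Subsingleton (↥K ⧸ center ↥K) := (Nat.card_eq_one_iff_unique.1 (hdq.trans (by norm_num))).1
        exact fun a b => Subsingleton.elim _ _
      · haveI : IsCyclic (↥K ⧸ center ↥K) := isCyclic_of_prime_card (p := 3) (hdq.trans (by norm_num))
        letI := IsCyclic.commGroup (α := ↥K ⧸ center ↥K)
        exact fun a b => mul_comm a b
      · exact IsPGroup.commutative_of_card_eq_prime_sq (hdq.trans rfl)
      · omega
    have h : (⟨_, hcK⟩ : ↥K) ∈ center ↥K := by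
      rw [← QuotientGroup.eq_one_iff]
      show (QuotientGroup.mk' (center ↥K)) (⟨x, hxK⟩ * ⟨y, hyK⟩ * ⟨x, hxK⟩⁻¹ * ⟨y, hyK⟩⁻¹) = 1
      rw [map_mul, map_mul, map_mul, map_inv, map_inv, hcomm (QuotientGroup.mk' _ ⟨x, hxK⟩), mul_inv_cancel_right,
        mul_inv_cancel]
    exact (congrArg Subtype.val (mem_center_iff.1 h ⟨k, hk⟩)).symm
  by_contra hc
  -- the centraliser of `j` in `K`
  have hCK : ∀ k ∈ K, Commute k j → k ∈ zpowers x := by
    intro k hk hkj
    have h1 : Nat.card ↥(K ⊓ centralizer ({j} : Set X)) ∣ Nat.gcd 27 12 :=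
      Nat.dvd_gcd (hK27 ▸ Subgroup.card_dvd_of_le inf_le_left) (hcJ j hj ▸ Subgroup.card_dvd_of_le inf_le_right)
    have h2 : zpowers x = K ⊓ centralizer ({j} : Set X) := by
      refine eq_of_le_of_card_ge (zpowers_le.2 ⟨hxK, mem_centralizer_singleton_iff.2 hxj⟩) ?_
      rw [Nat.card_zpowers, orderOf_eq_prime hx3 hx1]
      exact Nat.le_of_dvd (by norm_num) h1
    exact h2 ▸ ⟨hk, mem_centralizer_singleton_iff.2 hkj⟩
  set c := x * y * x⁻¹ * y⁻¹ with hcdef
  -- `i` fixes the commutator
  have hic : Commute c i := by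
    have h1 : i * c * i⁻¹ = x⁻¹ * y⁻¹ * x * y := by
      rw [hcdef, show i * (x * y * x⁻¹ * y⁻¹) * i⁻¹ = i * x * i⁻¹ * (i * y * i⁻¹) * (i * x * i⁻¹)⁻¹ * (i * y * i⁻¹)⁻¹ by group,
        hix, hiy, inv_inv, inv_inv]
    have h2 : x⁻¹ * y⁻¹ * x * y = (y * x)⁻¹ * c * (y * x) := by rw [hcdef]; group
    have h3 : (y * x)⁻¹ * c * (y * x) = c := by
      rw [mul_assoc, (hKcent _ (mul_mem hyK hxK)).eq, inv_mul_cancel_left]
    rw [h2, h3] at h1
    exact (mul_inv_eq_iff_eq_mul.1 h1).symm
  have hcm : m⁻¹ * c * m ∈ zpowers x := by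
    refine hCK _ (by
      rw [show m⁻¹ * c * m = m⁻¹ * c * m⁻¹⁻¹ by rw [inv_inv]]
      exact Subgroup.Normal.conj_mem ‹_› _ hcK _) ?_
    have h := hic.map (MulAut.conj m⁻¹).toMonoidHom
    rw [hi] at h
    simpa [mul_assoc] using h
  -- hence `x` is central in `K`
  have hne : m⁻¹ * c * m ≠ 1 := fun h => hc (by
    have := congrArg (fun g => m * g * m⁻¹) h
    simpa [mul_assoc] using this)
  have hxgen : x ∈ zpowers (m⁻¹ * c * m) := by
    refine (eq_of_le_of_card_ge (zpowers_le.2 hcm) ?_).ge (mem_zpowers x)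
    rw [Nat.card_zpowers, Nat.card_zpowers, orderOf_eq_prime hx3 hx1]
    refine le_of_eq (orderOf_eq_prime ?_ hne).symm
    obtain ⟨r, hr⟩ := mem_zpowers_iff.1 hcm
    rw [← hr, ← zpow_natCast, ← zpow_mul, mul_comm, zpow_mul, zpow_natCast, hx3, one_zpow]
  obtain ⟨r, hr⟩ := mem_zpowers_iff.1 hxgen
  have hxy : Commute x y := by
    have h1 : Commute (m⁻¹ * c * m) y := by
      have h2 := (hKcent (m * y * m⁻¹) (Subgroup.Normal.conj_mem ‹_› _ hyK _)).map (MulAut.conj m⁻¹).toMonoidHom
      simpa [mul_assoc] using h2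
    rw [← hr]; exact h1.zpow_left r
  exact hc (by rw [hcdef, hxy.eq, mul_inv_cancel_right, mul_inv_cancel])

end CfsgLib.UFourType
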